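import Cfsg.Agent.SZ.SUZ5_b
import Cfsg.Agent.H3.PGL2Rec

set_option autoImplicit false

/-! Peterfalvi, Part II, Chapter IV: identification with `PSU₃(q)`. -/

namespace CfsgSZ

open Subgroup CfsgH5 CfsgH6 CfsgFT Matrix
open scoped MatrixGroups

universe u

section model

variable {E : Type} [Field E] [CharP E 2] (σ : E →+* E)

/-- the hermitian form with antidiagonal Gram matrix. -/
def formJ (u v : Fin 3 → E) : E := u 0 * σ (v 2) + u 1 * σ (v 1) + u 2 * σ (v 0)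

/-- the unitary group of `formJ`. -/
def UJ : Subgroup SL(3, E) := Cfsg.preserving (Cfsg.slToMat 3 E) (formJ σ)

variable {σ}

omit [CharP E 2] in
theorem mem_UJ {A : SL(3, E)} : A ∈ UJ σ ↔ ∀ u v, formJ σ (A.1 *ᵥ u) (A.1 *ᵥ v) = formJ σ u v := Iff.rfl

omit [CharP E 2] in
theorem sl_mul_vec (A B : SL(3, E)) (v : Fin 3 → E) : (A * B).1 *ᵥ v = A.1 *ᵥ B.1 *ᵥ v := by
  rw [mulVec_mulVec]; rfl

theorem nonempty_UJ_equiv {q : ℕ} (hσ : ∀ x, σ x = x ^ q) : Nonempty (UJ σ ≃* Cfsg.SU 3 E q) := by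
  have two : (2 : E) = 0 := CharTwo.two_eq_zero
  let P : SL(3, E) := ⟨!![1, 1, 0; 1, 1, 1; 0, 1, 1], by simp [det_fin_three, CharTwo.neg_eq]⟩
  have hP : ∀ u v, Cfsg.hermForm 3 E q (P.1 *ᵥ u) (P.1 *ᵥ v) = formJ σ u v := fun u v => by
    simp [Cfsg.hermForm, formJ, ← hσ, P, Fin.sum_univ_three, mulVec, dotProduct]
    grind
  refine ⟨((MulAut.conj P).subgroupMap (UJ σ)).trans (MulEquiv.subgroupCongr ?_)⟩
  ext A
  refine mem_map_equiv.trans (mem_UJ.trans ?_)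
  change _ ↔ ∀ u v, Cfsg.hermForm 3 E q (A.1 *ᵥ u) (A.1 *ᵥ v) = _
  have e : ∀ u, P.1 *ᵥ ((MulAut.conj P).symm A).1 *ᵥ u = A.1 *ᵥ P.1 *ᵥ u := fun u => by
    rw [← sl_mul_vec, ← sl_mul_vec]
    exact congrArg (fun B : SL(3, E) => B.1 *ᵥ u) (by rw [MulAut.conj_symm_apply]; group)
  simp only [← hP, e]
  refine ⟨fun h u v => ?_, fun h u v => h _ _⟩
  have e' : ∀ u, P.1 *ᵥ (P⁻¹).1 *ᵥ u = u := fun u => by
    rw [← sl_mul_vec, mul_inv_cancel]; exact one_mulVec u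
  simpa only [e'] using h ((P⁻¹).1 *ᵥ u) ((P⁻¹).1 *ᵥ v)

/-- the unipotent elements. -/
def uU (hσ : ∀ x, σ (σ x) = x) {x y : E} (h : y + σ y = x * σ x) : UJ σ :=
  ⟨⟨!![1, σ x, y; 0, 1, x; 0, 0, 1], by simp [det_fin_three]⟩, mem_UJ.mpr fun u v => by
    have two : (2 : E) = 0 := CharTwo.two_eq_zero
    simp [formJ, Fin.sum_univ_three, mulVec, dotProduct, hσ]
    grind⟩

/-- the Weyl element. -/
def uT (σ : E →+* E) : UJ σ :=
  ⟨⟨!![0, 0, 1; 0, 1, 0; 1, 0, 0], by simp [det_fin_three, CharTwo.neg_eq]⟩, mem_UJ.mpr fun u v => by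
    simp [formJ, Fin.sum_univ_three, mulVec, dotProduct]
    ring⟩

theorem uU_vec (hσ : ∀ x, σ (σ x) = x) {x y : E} (h : y + σ y = x * σ x) (v : Fin 3 → E) :
    (uU hσ h).1.1 *ᵥ v = ![v 0 + σ x * v 1 + y * v 2, v 1 + x * v 2, v 2] := by
  ext i; fin_cases i <;> simp [uU, mulVec, dotProduct, Fin.sum_univ_three]

theorem uT_vec (v : Fin 3 → E) : (uT σ).1.1 *ᵥ v = ![v 2, v 1, v 0] := by
  ext i; fin_cases i <;> simp [uT, mulVec, dotProduct, Fin.sum_univ_three]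

omit [CharP E 2] in
theorem UJ_mul_vec (A B : UJ σ) (v : Fin 3 → E) : (A * B).1.1 *ᵥ v = A.1.1 *ᵥ B.1.1 *ᵥ v :=
  sl_mul_vec _ _ v

omit [CharP E 2] in
theorem UJ_diag {A : UJ σ} {c d : E} (h1 : A.1.1 *ᵥ ![1, 0, 0] = c • ![1, 0, 0])
    (h2 : A.1.1 *ᵥ ![0, 0, 1] = d • ![0, 0, 1]) : c ≠ 0 ∧ c * σ d = 1 ∧
      A.1.1 = diagonal ![c, (c * d)⁻¹, d] := by
  have a1 := A.2 ![1, 0, 0] ![0, 0, 1]
  have a2 := A.2 ![1, 0, 0] ![0, 1, 0]
  have a3 := A.2 ![0, 0, 1] ![0, 1, 0]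
  change formJ σ (A.1.1 *ᵥ _) (A.1.1 *ᵥ _) = _ at a1 a2 a3
  rw [h1] at a1 a2
  rw [h2] at a1 a3
  have b := fun i => congrFun h1 i
  have b' := fun i => congrFun h2 i
  have d1 := A.1.2
  simp [formJ, mulVec, dotProduct, Fin.sum_univ_three, Fin.forall_fin_succ] at a1 a2 a3 b b'
  have c0 := left_ne_zero_of_mul_eq_one a1
  have d0 : d ≠ 0 := fun e => by simp [e] at a1
  simp only [c0, d0, false_or] at a2 a3
  rw [det_fin_three] at d1
  refine ⟨c0, a1, ?_⟩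
  ext i j
  fin_cases i <;> fin_cases j <;> simp [*] at d1 ⊢
  grind

theorem UJ_gen [Finite E] (hσ : ∀ x, σ (σ x) = x) {B : Subgroup (UJ σ)} (hT : uT σ ∈ B)
    (hU : ∀ x y (h : y + σ y = x * σ x), uU hσ h ∈ B) (A : UJ σ) : A ∈ B := by
  have two : (2 : E) = 0 := CharTwo.two_eq_zero
  have iso : ∀ (A : UJ σ) (v : Fin 3 → E), formJ σ v v = 0 → (A.1.1 *ᵥ v) 2 ≠ 0 →
      ∃ U ∈ B, U.1.1 *ᵥ ![1, 0, 0] = ![1, 0, 0] ∧ (U * A).1.1 *ᵥ v = (A.1.1 *ᵥ v) 2 • ![0, 0, 1] := by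
    intro A v hv h0
    have e := (mem_UJ.mp A.2 v v).trans hv
    simp only [UJ_mul_vec]
    generalize A.1.1 *ᵥ v = w at h0 e
    have := (map_ne_zero σ).mpr h0
    refine ⟨_, hU (w 1 / w 2) (σ (w 0 / w 2)) (by
      simp only [formJ, map_div₀, hσ] at e ⊢; field_simp; grind), by simp [uU_vec], ?_⟩
    rw [uU_vec]
    simp only [formJ] at e
    ext i; fin_cases i <;> simp <;> field_simp <;> grind
  have r1 : ∀ (A : UJ σ) (c : E), A.1.1 *ᵥ ![1, 0, 0] = c • ![1, 0, 0] →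
      ∃ U ∈ B, c ≠ 0 ∧ (U * A).1.1 = diagonal ![c, (c * (σ c)⁻¹)⁻¹, (σ c)⁻¹] := by
    intro A c h
    have e := mem_UJ.mp A.2 ![1, 0, 0] ![0, 0, 1]
    rw [h] at e
    obtain ⟨U, hU', e1, e'⟩ := iso A ![0, 0, 1] (by simp [formJ]) (fun c => by simp [formJ, c] at e)
    obtain ⟨a1, a2, a3⟩ := UJ_diag (A := U * A) (c := c) (by rw [UJ_mul_vec, h, mulVec_smul, e1]) e'
    have := congrArg σ a2
    rw [map_mul, hσ, map_one] at this
    exact ⟨U, hU', a1, by rw [a3, eq_inv_of_mul_eq_one_right this]⟩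
  have r2 : ∀ A : UJ σ, (A.1.1 *ᵥ ![1, 0, 0]) 2 ≠ 0 → ∃ U ∈ B,
      (U * A).1.1 *ᵥ ![1, 0, 0] = (A.1.1 *ᵥ ![1, 0, 0]) 2 • ![1, 0, 0] := fun A h => by
    obtain ⟨U, hU', -, e⟩ := iso A _ (by simp [formJ]) h
    exact ⟨_, mul_mem hT hU', by rw [mul_assoc, UJ_mul_vec, e, mulVec_smul, uT_vec]; rfl⟩
  have r3 : ∀ (A : UJ σ) (c : E), A.1.1 *ᵥ ![1, 0, 0] = c • ![1, 0, 0] → A ∈ B := fun A c h => by
    obtain ⟨U, hU', c0, e⟩ := r1 A c h
    obtain ⟨x, x1, x2⟩ := u3_sq hσ (b := c + σ c) (by rw [map_add, hσ, add_comm])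
    have m := mul_mem (mul_mem hT (hU x c (by rw [x1, ← sq, x2]))) hT
    obtain ⟨V, hV, e1⟩ := r2 (uT σ * uU hσ (x := x) (y := c) (by rw [x1, ← sq, x2]) * uT σ)
      (by simp only [UJ_mul_vec, uU_vec, uT_vec]; simpa using c0)
    obtain ⟨W, hW, -, e2⟩ := r1 _ c (e1.trans (by simp only [UJ_mul_vec, uU_vec, uT_vec]; simp))
    rw [← mul_mem_cancel_left hU', show U * A = _ from Subtype.ext (Subtype.ext (e.trans e2.symm))]
    exact mul_mem hW (mul_mem hV m)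
  by_cases c : (A.1.1 *ᵥ ![1, 0, 0]) 2 = 0
  · have e := mem_UJ.mp A.2 ![1, 0, 0] ![1, 0, 0]
    refine r3 A ((A.1.1 *ᵥ ![1, 0, 0]) 0) ?_
    generalize A.1.1 *ᵥ ![1, 0, 0] = w at c e
    ext i; fin_cases i <;> simp [formJ, c] at e ⊢ <;> exact e
  · obtain ⟨U, hU', e⟩ := r2 A c
    exact (mul_mem_cancel_left hU').mp (r3 _ _ e)

end model

variable {G : Type u} [Group G] [Finite G] [FTthm.{u}]

open Suz0

/-- representatives of the cosets of `H`. -/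
def Suz0.rep (S : Suz0 G) : Option S.Q → G
  | none => 1
  | some a => S.t * a

omit [FTthm.{u}] in
theorem Suz0.rep_inj {S : Suz0 G} {p p' : Option S.Q} (h : S.rep p * (S.rep p')⁻¹ ∈ S.H) : p = p' := by
  rcases p with _ | a <;> rcases p' with _ | b <;> simp only [Suz0.rep] at h
  · rfl
  · rw [one_mul, inv_mem_iff, mul_mem_cancel_right (S.Q_le_H b.2)] at h
    exact absurd h S.t_not
  · rw [inv_one, mul_one, mul_mem_cancel_right (S.Q_le_H a.2)] at h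
    exact absurd h S.t_not
  · exact congrArg _ (Subtype.ext (Mv.eq (S := S) (x := a) (y := 1) (by simp [Mv]) (by simpa [Mv] using h)
      a.2 b.2))

theorem UCo.core {S : Suz G} (hN : S.N = ⊥) {E : Type} [Field E] [Finite E] [CharP E 2] {σ : E →+* E}
    (hσ : ∀ x, σ (σ x) = x) {x y : G → E} (h : UCo S σ x y) (h0 : ¬ S.Q ≤ S.Q0) :
    S.L ⊓ S.D ≤ S.K ⊔ S.W ∧ Nonempty (S.L ≃* UJ σ ⧸ center (UJ σ)) := by
  have two : (2 : E) = 0 := CharTwo.two_eq_zero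
  let v : Option S.Q → Fin 3 → E := fun p => p.elim ![1, 0, 0] fun a => ![y a, x a, 1]
  let Γ : Subgroup (G × UJ σ) := closure
    ({z | ∃ a : S.Q, z = ((a : G)⁻¹, uU hσ (h.tr a a.2))} ∪ {(S.t, uT σ)})
  have x1 : x 1 = 0 := (h.ker 1 (one_mem _)).mpr (one_mem _)
  have y1 : y 1 = 0 := by simpa [x1] using h.y_mul 1 (one_mem _) 1 (one_mem _)
  have cp : ∀ z ∈ Γ, ∀ p, ∃ p', S.rep p * z.1 * (S.rep p')⁻¹ ∈ S.H ∧
      ∃ c : E, z.2.1.1 *ᵥ v p' = c • v p := by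
    intro z hz
    replace hz : z ∈ Γ.toSubmonoid := hz
    rw [closure_toSubmonoid_of_finite] at hz
    induction hz using Submonoid.closure_induction with
    | one => exact fun p => ⟨p, by simp, 1, by simp⟩
    | mul a b _ _ ha hb =>
      intro p
      obtain ⟨p', a1, c, a2⟩ := ha p
      obtain ⟨p'', b1, d, b2⟩ := hb p'
      exact ⟨p'', by simpa [mul_assoc] using mul_mem a1 b1, d * c, by
        rw [Prod.snd_mul, UJ_mul_vec, b2, mulVec_smul, a2, smul_smul]⟩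
    | mem z hz =>
      rcases hz with ⟨a, rfl⟩ | rfl <;> rintro (_ | b)
      · exact ⟨none, by simpa [Suz0.rep] using S.Q_le_H a.2, 1, by simp [v, uU_vec]⟩
      · have e1 := h.x_mul _ (b * a⁻¹).2 _ a.2
        have e2 := h.y_mul _ (b * a⁻¹).2 _ a.2
        rw [← coe_mul, inv_mul_cancel_right] at e1 e2
        exact ⟨some (b * a⁻¹), mv_Q _ _, 1, by simp only [v, uU_vec]; simp [e1, e2]; ring⟩
      · exact ⟨some 1, by simp [Suz0.rep], 1, by simp [v, uT_vec, x1, y1]⟩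
      by_cases c : (b : G) = 1
      · exact ⟨none, by simp [Suz0.rep, c, S.tt], 1, by simp [v, uT_vec, c, x1, y1]⟩
      · obtain ⟨e1, e2⟩ := h.f b b.2 c
        refine ⟨some ⟨_, f_mem b.2 c⟩, mv_t b.2 c, y (S.f b), ?_⟩
        simp only [v, uT_vec]; simp; grind
  have cp' : ∀ z ∈ Γ, ∀ p p', S.rep p * z.1 * (S.rep p')⁻¹ ∈ S.H → ∃ c : E, z.2.1.1 *ᵥ v p' = c • v p := by
    intro z hz p p' e
    obtain ⟨p'', a, b⟩ := cp z hz p
    rwa [rep_inj (p := p') (p' := p'') (by simpa [mul_assoc] using mul_mem (inv_mem e) a)]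
  have mU : ∀ a : S.Q, ((a : G)⁻¹, uU hσ (h.tr a a.2)) ∈ Γ := fun a => subset_closure (.inl ⟨a, rfl⟩)
  have mT : (S.t, uT σ) ∈ Γ := subset_closure (.inr rfl)
  have fst : Γ.map (MonoidHom.fst _ _) = S.L := le_antisymm (by
    rw [map_le_iff_le_comap, closure_le]
    rintro _ (⟨a, rfl⟩ | rfl)
    · exact inv_mem (Q_le_L a.2)
    · exact t_mem_L) (sup_le (fun a ha => ⟨_, mU ⟨a⁻¹, inv_mem ha⟩, inv_inv a⟩)
      (zpowers_le.mpr ⟨_, mT, rfl⟩))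
  have cen : ∀ g ∈ S.L, (∀ a ∈ S.Q, a * g = g * a) → S.t * g = g * S.t → g = 1 := fun g hg h1 h2 => by
    have := mem_H_of_comm S.s_mem S.s_ne (L_le_X hg) (h1 _ S.s_mem).symm
    exact mem_bot.mp (hN ▸ ⟨mem_D.mpr ⟨this, by rwa [h2, S.mtt]⟩, mem_C.mpr h1⟩)
  have mL : ∀ z ∈ Γ, z.1 ∈ S.L := fun z hz => fst ▸ ⟨z, hz, rfl⟩
  have inj : ∀ z ∈ Γ, z.2 = 1 → z.1 = 1 := by
    intro z hz e
    have fx : ∀ p, S.rep p * z.1 * (S.rep p)⁻¹ ∈ S.H := fun p => by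
      obtain ⟨p', a, c, b⟩ := cp z hz p
      rw [e, show (1 : UJ σ).1.1 *ᵥ v p' = v p' from one_mulVec _] at b
      suffices p' = p by rwa [this] at a
      rcases p with _ | p <;> rcases p' with _ | p' <;> simp [v] at b ⊢
      · grind
      · exact Subtype.ext (h.inj _ p'.2 _ p.2 (by grind) (by grind))
    have d : z.1 ∈ S.D := mem_D.mpr ⟨by simpa [Suz0.rep] using fx none, by
      simpa [Suz0.rep, S.t_inv] using fx (some 1)⟩
    exact mem_bot.mp (hN ▸ ⟨d, mem_C.mpr fun a ha => by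
      have : a = _ := Mv.eq (fx (some ⟨a, ha⟩)) (mv_D a d) ha (conjQ' (S.D_le_H d) ha)
      nth_rewrite 2 [this]; group⟩)
  refine ⟨fun d hd => ?_, ?_⟩
  · obtain ⟨z, hz, rfl⟩ := fst ▸ hd.1
    replace hd : z.1 ∈ S.D := hd.2
    obtain ⟨c, e1⟩ := cp' z hz none none (by simpa [Suz0.rep] using S.D_le_H hd)
    obtain ⟨c', e2⟩ := cp' z hz (some 1) (some 1) (by simpa [Suz0.rep, S.t_inv] using S.D_le_H (tDt hd))
    obtain ⟨c0, -, e3⟩ := UJ_diag e1 (by simpa [v, x1, y1] using e2)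
    have e4 : ∀ u ∈ S.Q0, c * y (z.1⁻¹ * u * z.1) = c' * y u := fun u hu => by
      obtain ⟨l, e⟩ := cp' z hz (some ⟨u, Q0_le_Q hu⟩)
        (some ⟨_, conjQ' (S.D_le_H hd) (Q0_le_Q hu)⟩) (mv_D u hd)
      simp [e3, v, mulVec_diagonal, funext_iff, Fin.forall_fin_succ] at e
      grind
    have m := fun u => nrm_HQ0.conj' (x := u) (S.D_le_H hd)
    obtain ⟨k, hk, e5⟩ := S.exists_Ks_s (m _ S.s_Q0) (fun c => S.s_ne (conj_eq_one_iff.mp (by rwa [inv_inv])))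
    obtain ⟨l, hl⟩ := h.K k (Ks_le_K hk)
    have x0 := fun u hu => (h.ker u (Q0_le_Q hu)).mpr hu
    have ys : y S.s ≠ 0 := fun e => S.s_ne (h.inj _ S.s_mem _ (one_mem _) (by rw [x0 _ S.s_Q0, x1])
      (by rw [e, y1]))
    have e6 := e4 _ S.s_Q0
    rw [← e5, hl _ S.s_Q0] at e6
    change z.1 ∈ _
    rw [← mul_mem_cancel_right (mem_sup_left (Ks_le_K hk))]
    refine mem_sup_right ⟨mul_mem hd (Ks_D hk), mem_C.mpr fun u hu => ?_⟩
    have m' := nrm_KQ0 k (Ks_le_K hk) u hu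
    have := h.inj _ (Q0_le_Q m') _ (Q0_le_Q (m u hu)) (by rw [x0 _ m', x0 _ (m u hu)])
      (mul_left_cancel₀ c0 (by rw [e4 u hu, hl u hu, ← mul_right_cancel₀ ys ((mul_assoc c l _).trans e6),
        mul_assoc]))
    calc u * (z.1 * k) = z.1 * (z.1⁻¹ * u * z.1) * k := by group
      _ = _ := by rw [← this]; group
  let e : Γ ≃* UJ σ := MulEquiv.ofBijective ((MonoidHom.snd _ _).comp Γ.subtype)
    ⟨(injective_iff_map_eq_one _).mpr fun z e => Subtype.ext (Prod.ext (inj _ z.2 e) e), fun A => by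
      obtain ⟨z, hz, e⟩ := UJ_gen hσ (B := Γ.map (MonoidHom.snd _ _)) ⟨_, mT, rfl⟩ (fun a b e => by
        obtain ⟨g, hg, rfl, rfl⟩ := h.surj a b e
        exact ⟨_, mU ⟨g, hg⟩, rfl⟩) A
      exact ⟨⟨z, hz⟩, e⟩⟩
  let π : Γ →* S.L := ((MonoidHom.fst _ _).comp Γ.subtype).codRestrict _ fun z => mL _ z.2
  have ker : π.ker = center Γ := by
    ext z
    rw [← CfsgH3.map_center_equiv e.symm, MonoidHom.mem_ker, Subtype.ext_iff]
    refine Iff.trans ?_ mem_map_equiv.symm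
    change z.1.1 = 1 ↔ z.1.2 ∈ _
    constructor
    · intro e
      have fx := fun p => cp' z z.2 p p (by simp [e])
      obtain ⟨c, e1⟩ := fx none
      obtain ⟨c', e2⟩ := fx (some 1)
      obtain ⟨c0, -, e3⟩ := UJ_diag e1 (by simpa [v, x1, y1] using e2)
      obtain ⟨a, ha, a0⟩ := SetLike.not_le_iff_exists.mp h0
      obtain ⟨l, e4⟩ := fx (some ⟨a, ha⟩)
      have xa := mt (h.ker a ha).mp a0
      have ya := right_ne_zero_of_mul_eq_one (h.f a ha (fun c => a0 (c ▸ one_mem _))).2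
      simp [e3, v, mulVec_diagonal, funext_iff, Fin.forall_fin_succ, xa, ya] at e4
      refine mem_center_iff.mpr fun B => Subtype.ext (Subtype.ext ?_)
      change B.1.1 * z.1.2.1.1 = z.1.2.1.1 * B.1.1
      rw [e3, show diagonal ![c, (c * c')⁻¹, c'] = scalar _ l by
        rw [_root_.mul_inv_rev, e4.2.1]; ext i j; fin_cases i <;> fin_cases j <;> simp [e4]]
      exact (scalar_commute l (fun _ => Commute.all _ _) _).symm
    · intro e
      have : ∀ w ∈ Γ, w.1 * z.1.1 = z.1.1 * w.1 := fun w hw => by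
        have := inj _ (mul_mem (mul_mem hw z.2) (inv_mem (mul_mem z.2 hw)))
          (mul_inv_eq_one.mpr (mem_center_iff.mp e w.2))
        exact mul_inv_eq_one.mp this
      exact cen _ (mL _ z.2) (fun a ha => by simpa using this _ (mU ⟨a⁻¹, inv_mem ha⟩)) (this _ mT)
  exact ⟨((QuotientGroup.quotientKerEquivOfSurjective π fun g => by
    obtain ⟨z, hz, e⟩ := fst.ge g.2
    exact ⟨⟨z, hz⟩, Subtype.ext e⟩).symm.trans (QuotientGroup.quotientMulEquivOfEq ker)).trans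
      (CfsgH3.quotCenterCongr e)⟩

theorem Suz.core (S : Suz G) (hq : 2 < S.q) (hN : S.N = ⊥) (h : S.TypC) :
    S.L ⊓ S.D ≤ S.K ⊔ S.W ∧ IsoC S.L S.q := by
  obtain ⟨ω, ζ, E, _, _, _, σ, φ, ψ, β, hc, h⟩ := Suz.exists_uc hq hN h
  obtain ⟨x, y, h'⟩ := h.exists_uco
  obtain ⟨a, ⟨e⟩⟩ := h'.core hN h.σσ (fun c => h.om.2.1 (c h.om.1))
  obtain ⟨e'⟩ := nonempty_UJ_equiv h.σ_eq
  exact ⟨a, E, _, _, hc, ⟨e.trans (CfsgH3.quotCenterCongr e')⟩⟩

instance SUZ5_holds : SUZ5.{u} :=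
  ⟨fun _ hq hN h2 hc h3 hW hD => Suz.exists_om h3 hq hN h2 hc hW hD, fun S => S.core⟩

end CfsgSZ
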