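import Cfsg.Agent.SZ.BN_b
import Cfsg.Agent.SZ.N3b_c
import Cfsg.Agent.SZ.SUZ5_c

set_option autoImplicit false
set_option linter.unusedSectionVars false

/-! Split `BN`-pairs of rank one: `U` is regular, and the classification. -/

namespace CfsgSZ

open Subgroup CfsgH5 CfsgH6 CfsgFT
open scoped commutatorElement

universe u

variable {G : Type u} [Group G] [Finite G]

theorem exists_sq_of_isPGroup {X : Subgroup G} (h : IsPGroup 2 X) (n : X ≠ ⊥) :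
    ∃ e ∈ X, e ≠ 1 ∧ e * e = 1 := by
  obtain ⟨u, hu, h⟩ := exists_mem_orderOf_eq Nat.prime_two
    (prime_dvd_card_of_isPGroup Nat.prime_two h n)
  refine ⟨u, hu, fun e => ?_, by rw [← pow_two, ← h, pow_orderOf_eq_one]⟩
  rw [e, orderOf_one] at h; exact absurd h (by decide)

theorem D_le_of_sq {X Y : Subgroup G} (h : ∀ x ∈ X, x * x ∈ Y) : D X ≤ Y :=
  commutator_le.2 fun a ha b hb => by
    have := mul_mem (mul_mem (h a ha) (h _ (mul_mem (inv_mem ha) hb))) (h _ (inv_mem hb))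
    simpa [commutatorElement_def, mul_assoc] using this

namespace SB

variable [IsSimpleGroup G] (S : SB G)

protected def Y : Subgroup G := S.U ⊓ CS S.Z S.U

theorem nrm_BY : Nrm S.B S.Y := S.nrm_BU.inf (S.nrm_BZ.CS S.nrm_BU)
theorem Y_le : S.Y ≤ S.U := inf_le_left
theorem Z_le_Y : S.Z ≤ S.Y := le_inf S.Z_le (le_CS_self (S.nrm_BZ.mono S.U_le))

variable {S}

theorem comm_Y {y x : G} (hy : y ∈ S.Y) (hx : x ∈ S.U) : ⁅y, x⁆ ∈ S.Z := (mem_CS.1 hy.2).2 x hx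

theorem Z_ne_Y (h : S.Z ≠ S.U) : S.Z ≠ S.Y := fun e => by
  have h1 := S.nrm_BZ.mono S.U_le
  refine Z_ne_bot_of_nilpotent (nilpotent_quo S.Z S.nil)
    (fun e => h (le_antisymm S.Z_le ((quo_eq_bot h1).1 e))) ?_
  have := quo_eq_bot_of_le e.ge
  rwa [SB.Y, CS_eq_coq h1, quo_inf_coq] at this

variable (h2 : IsPGroup 2 S.U) {K : Subgroup G} (hK : K ≤ S.H ⊓ C S.A)
  (ht : ∀ z ∈ S.Z, z ≠ 1 → ∀ z' ∈ S.Z, z' ≠ 1 → ∃ k ∈ K, k * z * k⁻¹ = z')
  (hc : Nat.card K + 1 = Nat.card S.Z) (hf : ∀ k ∈ K, k ≠ 1 → S.U ⊓ C1 k ≤ S.A) (hA : S.A ≠ ⊥)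
include h2 hK ht

theorem relIndex_ZA {e : G} (he : e ∈ S.A) (e1 : e ≠ 1) (e2 : e * e = 1) :
    Nat.card S.Z ^ 2 ≤ (C1 e).relIndex S.U := by
  obtain ⟨h3, h4⟩ := cent_le h2 hK ht he e1 e2
  rw [← relIndex_mul_relIndex S.A (S.Z ⊔ S.A) S.U le_sup_right (sup_le S.Z_le S.A_le),
    relIndex_sup' (.inr (S.nrm_BZ.mono (S.A_le.trans S.U_le))), relIndex_of_inf_eq_bot A_inf_Z,
    pow_succ', mul_right_inj' Nat.card_pos.ne'] at h3
  rw [← h3, ← inf_relIndex_right (C1 e), inf_comm]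
  exact relIndex_le_of_le_left h4 (relIndex_ne_zero' _ _)

theorem Y_inf_A : S.Y ⊓ S.A = ⊥ := by
  by_contra n
  obtain ⟨e, he, e1, e2⟩ := exists_sq_of_isPGroup (h2.to_le (inf_le_left.trans S.Y_le)) n
  have := (relIndex_ZA h2 hK ht he.2 e1 e2).trans (relIndex_C1_le fun x hx => by
    rw [← inv_mem_iff, commutatorElement_inv]; exact comm_Y he.1 hx)
  have := S.two_lt
  nlinarith

theorem Y_inf_C1 {e : G} (he : e ∈ S.A) (e1 : e ≠ 1) (e2 : e * e = 1) : S.Y ⊓ C1 e ≤ S.Z := by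
  have := modular_left' (W := S.Y) (.inr (S.nrm_BZ.mono (S.A_le.trans S.U_le))) S.Z_le_Y
  rw [Y_inf_A h2 hK ht, sup_bot_eq] at this
  exact (le_inf inf_le_left ((inf_le_inf_right _ S.Y_le).trans
    (cent_le h2 hK ht he e1 e2).2)).trans this.le

include hc hf hA

omit ht hA in
theorem le_relIndex {X X' : Subgroup G} (h1 : X < X') (h3 : X' ≤ S.U) (h4 : Nrm X' X)
    (h5 : Nrm K X) (h6 : Nrm K X') (h7 : X' ⊓ S.A ≤ X) : Nat.card S.Z ≤ X.relIndex X' := by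
  have h8 := dvd_relIndex_sub_one h4 h5 h6 h1.le (coprime_of_odd
    (odd_of_le S.odd (hK.trans inf_le_left)) (h2.to_le h3)).symm fun k hk k1 =>
      (le_inf inf_le_left ((inf_le_inf_right _ h3).trans (hf k hk k1))).trans h7
  have h9 := relIndex_ne_zero' X X'
  have h10 : X.relIndex X' ≠ 1 := fun e => h1.not_ge (relIndex_eq_one.1 e)
  have := Nat.le_of_dvd (by omega) h8
  omega

theorem Z_lt_Y : S.Z < S.Y := by
  obtain ⟨e, he, e1, -⟩ := exists_sq_of_isPGroup (h2.to_le S.A_le) hA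
  exact S.Z_le_Y.lt_of_ne (Z_ne_Y fun h => not_mem_Z he e1 (h ▸ he.1))

theorem card_Y : Nat.card S.Y = Nat.card S.Z ^ 2 := by
  obtain ⟨e, he, e1, e2⟩ := exists_sq_of_isPGroup (h2.to_le S.A_le) hA
  have kB := (hK.trans inf_le_left).trans S.H_le
  rw [← card_mul_relIndex S.Z_le_Y, sq, mul_right_inj' Nat.card_pos.ne']
  refine le_antisymm (le_trans ?_ (relIndex_C1_le fun y hy => comm_Y hy he.1))
    (le_relIndex h2 hK hc hf (Z_lt_Y h2 hK ht hc hf hA) S.Y_le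
      (S.nrm_BZ.mono (S.Y_le.trans S.U_le)) (S.nrm_BZ.mono kB) (S.nrm_BY.mono kB)
      ((Y_inf_A h2 hK ht).le.trans bot_le))
  rw [← inf_relIndex_right (C1 e), inf_comm]
  exact relIndex_le_of_le_left (Y_inf_C1 h2 hK ht he e1 e2) (relIndex_ne_zero' _ _)

theorem A_inf_C : S.A ⊓ C S.Y = ⊥ := by
  by_contra n
  obtain ⟨e, he, e1, e2⟩ := exists_sq_of_isPGroup (h2.to_le (inf_le_left.trans S.A_le)) n
  exact (Z_lt_Y h2 hK ht hc hf hA).not_ge
    ((le_inf le_rfl (le_C1_iff.2 he.2)).trans (Y_inf_C1 h2 hK ht he.1 e1 e2))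

theorem sq_A {a : G} (ha : a ∈ S.A) : a * a = 1 := by
  refine mem_bot.1 (A_inf_C h2 hK ht hc hf hA ▸ mem_inf.2 ⟨mul_mem ha ha, mem_C.2 fun y hy => ?_⟩)
  have h3 := comm_Y hy ha.1
  have h4 : y * a = ⁅y, a⁆ * (a * y) := by rw [commutatorElement_def]; group
  rw [← mul_assoc, h4, mul_assoc, mul_assoc, h4, ← mul_assoc a, Z_comm h3 ha.1, ← mul_assoc,
    ← mul_assoc, ← mul_assoc, ElAb.sq S.elAb_Z h3, one_mul]

theorem relIndex_M : (S.Y ⊔ S.A).relIndex S.U = Nat.card S.Z := by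
  obtain ⟨e, he, e1, e2⟩ := exists_sq_of_isPGroup (h2.to_le S.A_le) hA
  have h3 := (cent_le h2 hK ht he e1 e2).1
  rwa [← relIndex_mul_relIndex S.A (S.Y ⊔ S.A) S.U le_sup_right (sup_le S.Y_le S.A_le),
    relIndex_sup' (.inr (S.nrm_BY.mono (S.A_le.trans S.U_le))),
    relIndex_of_inf_eq_bot ((inf_comm _ _).trans (Y_inf_A h2 hK ht)), card_Y h2 hK ht hc hf hA,
    pow_succ _ 2, mul_right_inj' (pow_pos Nat.card_pos 2).ne'] at h3

theorem eq_U {X X' : Subgroup G} (h0 : S.Y ⊔ S.A ≤ X) (h1 : X < X') (h3 : X' ≤ S.U) (h4 : Nrm X' X)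
    (h5 : Nrm K X) (h6 : Nrm K X') : X = S.Y ⊔ S.A ∧ X' = S.U := by
  have h7 := le_relIndex h2 hK hc hf h1 h3 h4 h5 h6 (inf_le_right.trans (le_sup_right.trans h0))
  rw [← relIndex_M h2 hK ht hc hf hA, ← relIndex_mul_relIndex _ X _ h0 (h1.le.trans h3),
    ← relIndex_mul_relIndex X X' _ h1.le h3, mul_comm, mul_assoc] at h7
  have h8 := Nat.le_of_mul_le_mul_left (h7.trans_eq (mul_one _).symm) (relIndex_pos _ _)
  have h9 := Nat.mul_pos (relIndex_pos X' S.U) (relIndex_pos (S.Y ⊔ S.A) X)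
  obtain ⟨a, b⟩ := mul_eq_one.1 (le_antisymm h8 h9)
  exact ⟨le_antisymm (relIndex_eq_one.1 b) h0, le_antisymm h3 (relIndex_eq_one.1 a)⟩

theorem M_lt : S.Y ⊔ S.A < S.U := (sup_le S.Y_le S.A_le).lt_of_ne fun e => by
  have := relIndex_M h2 hK ht hc hf hA
  rw [e, relIndex_self] at this
  exact absurd (this ▸ S.two_lt) (by decide)

omit h2 ht hc hf hA in
theorem nrm_KM : Nrm K (S.Y ⊔ S.A) := (S.nrm_BY.mono ((hK.trans inf_le_left).trans S.H_le)).sup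
  (S.nrm_HA.mono (hK.trans inf_le_left))

theorem nrm_UM : Nrm S.U (S.Y ⊔ S.A) := nrm_of_le_N (inf_eq_left.1 (eq_U h2 hK ht hc hf hA le_rfl
  (lt_inf_N_of_nilpotent S.nil (M_lt h2 hK ht hc hf hA)) inf_le_left (nrm_of_le_N inf_le_right)
  (nrm_KM hK) ((S.nrm_BU.mono ((hK.trans inf_le_left).trans S.H_le)).inf (nrm_KM hK).N)).2)

theorem comm_UA {u e : G} (hu : u ∈ S.U) (he : e ∈ S.A) : ⁅u, e⁆ ∈ S.Y := by
  have kB := (hK.trans inf_le_left).trans S.H_le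
  have aB := S.A_le.trans S.U_le
  have yB := S.Y_le.trans S.U_le
  have h3 : ∀ {X}, X ≤ S.B → X ≤ C S.A → X ≤ CS S.Y (S.Y ⊔ S.A) := fun h h' => by
    rw [CS_sup _ _ _ (Nrm.self _) (S.nrm_BY.mono aB)]
    exact le_inf (le_CS.2 ⟨S.nrm_BY.mono h, (S.nrm_BY.mono h).comm_le_right⟩)
      ((le_inf (S.nrm_BY.mono h).le_N h').trans (inf_C_le_CS _ _))
  obtain ⟨k, hk, k1⟩ := (bot_or_exists_ne_one K).resolve_left fun e => by
    have := S.two_lt
    rw [← hc, e, card_bot] at this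
    omega
  have h4 := comm_sup_inf_C (S.nrm_BU.mono kB) (coprime_of_odd
    (odd_of_le S.odd (hK.trans inf_le_left)) h2).symm (.inl (solvable_of_nilpotent S.nil))
  have h5 : S.U ≤ CS S.Y (S.Y ⊔ S.A) := h4.ge.trans (sup_le ((commutator_mono le_rfl
    (h3 kB (hK.trans inf_le_right))).trans ((S.nrm_BY.mono S.U_le).CS
      (nrm_UM h2 hK ht hc hf hA)).comm_le_right) (((inf_le_inf_left _ (C_le_C1 hk)).trans
        (hf k hk k1)).trans (h3 aB fun a ha => mem_C.2 fun b hb => ?_)))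
  · exact (mem_CS.1 (h5 hu)).2 e (mem_sup_right he)
  rw [← inv_eq_of_sq (sq_A h2 hK ht hc hf hA (mul_mem hb ha)), mul_inv_rev,
    inv_eq_of_sq (sq_A h2 hK ht hc hf hA ha), inv_eq_of_sq (sq_A h2 hK ht hc hf hA hb)]

theorem exists_conj_Y {e y : G} (he : e ∈ S.A) (e1 : e ≠ 1) (hy : y ∈ S.Y) :
    ∃ u ∈ S.U, u * e * u⁻¹ = y * e := by
  obtain ⟨_, rfl, u, hu, h⟩ := (Set.eq_of_subset_of_ncard_le
    (clSupp_subset fun u hu => comm_UA h2 hK ht hc hf hA hu he) (by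
      rw [ncard_image_mul, ncard_class, card_Y h2 hK ht hc hf hA]
      exact relIndex_ZA h2 hK ht he e1 (sq_A h2 hK ht hc hf hA he))).ge ⟨y, hy, rfl⟩
  exact ⟨u, hu, h.symm⟩

theorem uniq_A {e e' : G} (he : e ∈ S.A) (e1 : e ≠ 1) (he' : e' ∈ S.A) (e2 : e' ≠ 1) : e = e' := by
  have h3 : ∀ e ∈ S.A, e ≠ 1 → ∀ y ∈ S.Y, y * e = e * y⁻¹ := fun e he e1 y hy => by
    obtain ⟨u, -, h⟩ := exists_conj_Y h2 hK ht hc hf hA he e1 hy
    have e2 := sq_A h2 hK ht hc hf hA he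
    rw [← inv_eq_of_sq (u := y * e) (by rw [← h, conj_mul, e2]; group), mul_inv_rev, inv_eq_of_sq e2]
  have := mem_bot.1 (A_inf_C h2 hK ht hc hf hA ▸ mem_inf.2 ⟨mul_mem he he', mem_C.2 fun y hy => by
    rw [← mul_assoc, h3 e he e1 y hy, mul_assoc, h3 e' he' e2 _ (inv_mem hy), inv_inv, mul_assoc]⟩)
  rw [← mul_left_inj e', this, sq_A h2 hK ht hc hf hA he']

theorem sq_mem_Y {x : G} (hx : x ∈ S.U) : x * x ∈ S.Y := by
  have kU := S.nrm_BU.mono ((hK.trans inf_le_left).trans S.H_le)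
  have h3 := (M_lt h2 hK ht hc hf hA)
  have h4 := (eq_U h2 hK ht hc hf hA (X := S.Y ⊔ S.A ⊔ Phi S.U) le_sup_left
    ((sup_le h3.le (Phi_le _)).lt_of_ne fun e => h3.ne (eq_of_sup_Phi h3.le e.ge)) le_rfl
    ((nrm_UM h2 hK ht hc hf hA).sup (normalIn_Phi _).nrm) ((nrm_KM hK).sup kU.Phi) kU).1
  obtain ⟨y, hy, e, he, h⟩ := (mem_sup_of_or (.inr (S.nrm_BY.mono (S.A_le.trans S.U_le)))).1
    (h4.le (mem_sup_right (Mho1_le_Phi Nat.prime_two h2 (pow_mem_Mho1 hx))))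
  by_cases e1 : e = 1
  · rwa [← sq, h, e1, mul_one]
  obtain ⟨u, hu, h5⟩ := exists_conj_Y h2 hK ht hc hf hA he e1 hy
  have h6 : u⁻¹ * x * u * (u⁻¹ * x * u) = e := by
    rw [show e = u⁻¹ * (u * e * u⁻¹) * u by group, h5, ← h, sq]; group
  obtain ⟨z, hz, a, ha, h7⟩ := (mem_sup_of_or (.inr (S.nrm_BZ.mono (S.A_le.trans S.U_le)))).1
    ((cent_le h2 hK ht he e1 (sq_A h2 hK ht hc hf hA he)).2 (mem_inf.2
      ⟨(Nrm.self _).conj' hu hx, mem_C1.2 (by rw [← h6]; group)⟩))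
  rw [h7, mul_assoc, ← mul_assoc a, Z_comm hz ha.1, mul_assoc, sq_A h2 hK ht hc hf hA ha, mul_one,
    ElAb.sq S.elAb_Z hz] at h6
  exact absurd h6.symm e1

omit hK ht hc hf hA in
theorem A_eq_bot : S.A = ⊥ := by
  by_contra hA
  obtain ⟨K, hK, hc, ht, hf⟩ := exists_K h2
  obtain ⟨e, he, e1, e2⟩ := exists_sq_of_isPGroup (h2.to_le S.A_le) hA
  obtain ⟨z, hz, z1⟩ := (bot_or_exists_ne_one _).resolve_left S.Z_ne_bot
  have h3 : D (⊤ : Subgroup G) = ⊤ :=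
    (nrm_top_iff.1 (normalIn_D ⊤).nrm).eq_bot_or_eq_top.resolve_left fun h =>
      S.t_not (C1_le hz z1 (mem_C1.2 ((D_eq_bot.1 h).comm trivial trivial)))
  have hp : ∀ k, e ^ k = 1 ∨ e ^ k = e := fun k => by
    by_cases h : e ^ k = 1
    exacts [.inl h, .inr (uniq_A h2 hK ht hc hf hA (pow_mem he k) h he e1)]
  have h4 := pow_index_mem (D_le_of_sq fun x => sq_mem_Y h2 hK ht hc hf hA) S.Y_le he.1
    (h3.ge trivial) fun k g hg => by
      rcases hp k with h | h <;> rw [h] at hg ⊢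
      · simp
      have g1 : g⁻¹ * e * g ≠ 1 := by simpa using CfsgFT.conj_ne_one (g := g⁻¹) e1
      obtain ⟨u, hu, h5⟩ := conj_A h2 hK ht hg (by
        rw [show g⁻¹ * e * g * (g⁻¹ * e * g) = g⁻¹ * (e * e) * g by group, e2]; group) fun h =>
          not_mem_Z he e1 (I_B (by simpa [mul_assoc] using I_conj (I_of h g1) g) (S.U_le he.1)).1
      have h6 := uniq_A h2 hK ht hc hf hA h5 (CfsgFT.conj_ne_one g1) he e1
      have := S.nrm_BY.conj' (S.U_le he.1) (comm_UA h2 hK ht hc hf hA (inv_mem hu) he)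
      rw [show g⁻¹ * e * g = u⁻¹ * (u * (g⁻¹ * e * g) * u⁻¹) * u by group, h6]
      simpa [commutatorElement_def, mul_assoc] using this
  obtain ⟨m, hm⟩ : Odd S.U.index := by
    rw [← relIndex_mul_index S.U_le, S.sdp.relIndex_left]; exact S.odd.mul S.odd_idx
  rw [hm, pow_succ, pow_mul, sq, e2, one_pow, one_mul] at h4
  exact e1 (mem_bot.1 (Y_inf_A h2 hK ht ▸ mem_inf.2 ⟨h4, he⟩))

omit h2 hK ht hc hf hA in
/-- the classification of the simple groups with a split `BN`-pair of rank one, even case. -/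
theorem res (S : SB G) : ∃ S' : Suz G, 2 < S'.q ∧ S'.Res := by
  have h := A_eq_bot (isPGroup_U (S := S))
  have hk : pre (N S.A).subtype ⊥ = S.A := le_antisymm (fun g hg => by
    obtain ⟨_, e⟩ := mem_pre.1 hg
    exact (mem_bot.1 e : g = 1) ▸ one_mem _) (h.le.trans bot_le)
  obtain ⟨S', e⟩ := (S.toSuz0 _ hk).exists_suz
  have hq := S.two_lt_q _ hk
  rw [← e] at hq
  refine ⟨S', hq, S'.res ?_ hq (.inr inferInstance)⟩
  rw [e]
  exact (img_subtype _).trans (eq_top_iff.2 (le_inf le_rfl (h ▸ Nrm.bot ⊤).le_N))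

end SB

end CfsgSZ
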