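import Cfsg.Agent.SZ.SUZ_fin
import Cfsg.Agent.SZ.N3b_a

set_option autoImplicit false
set_option linter.unusedSectionVars false

/-! Split `BN`-pairs of rank one: reduction to hypothesis (A1). -/

namespace CfsgSZ

open Subgroup CfsgH5 CfsgH6 CfsgFT
open scoped commutatorElement

universe u

/-- a split `BN`-pair of rank one with `|G : B|` and `|H|` odd. -/
structure SB (G : Type u) [Group G] where
  protected B : Subgroup G
  protected U : Subgroup G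
  protected H : Subgroup G
  protected t : G
  sdp : SDP U H B
  nil : Group.IsNilpotent U
  t_not : t ∉ B
  tt : t * t = 1
  tH : ∀ h ∈ H, t * h * t ∈ H
  two : ∀ g, g ∉ B → ∃ b ∈ B, ∃ b' ∈ B, g = b * t * b'
  odd : Odd (Nat.card H)
  odd_idx : Odd B.index

variable {G : Type u} [Group G] [Finite G]

namespace SB

variable (S : SB G)

protected def A : Subgroup G := S.U ⊓ cj S.t S.B
protected def Z : Subgroup G := Om1 2 (Z S.U)

theorem t_inv : S.t⁻¹ = S.t := inv_eq_of_sq S.tt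
theorem ttm (x : G) : S.t * (S.t * x) = x := by rw [← mul_assoc, S.tt, one_mul]
theorem U_le : S.U ≤ S.B := S.sdp.left_le
theorem H_le : S.H ≤ S.B := S.sdp.right_le
theorem nrm_BU : Nrm S.B S.U := S.sdp.normalIn.nrm
theorem A_le : S.A ≤ S.U := inf_le_left
theorem Z_le_Z : S.Z ≤ Z S.U := Om1_le _ _
theorem Z_le : S.Z ≤ S.U := S.Z_le_Z.trans (CfsgFT.Z_le _)
theorem Z_le_C : S.Z ≤ C S.U := S.Z_le_Z.trans (CfsgFT.Z_le_C _)
theorem nrm_BZ : Nrm S.B S.Z := S.nrm_BU.Z.Om1 2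
theorem elAb_Z : ElAb 2 S.Z := elAb_Om1_Z _ _
theorem H_le_cj : S.H ≤ cj S.t S.B := fun h hh => by
  rw [mem_cj, S.t_inv]; exact S.H_le (S.tH h hh)
theorem nrm_HA : Nrm S.H S.A := (S.nrm_BU.mono S.H_le).inf (Nrm.of_le S.H_le_cj)
theorem inf_cj : S.B ⊓ cj S.t S.B = S.A ⊔ S.H := by
  nth_rw 1 [← S.sdp.sup]
  rw [modular_right (.inr S.sdp.nrm) S.H_le_cj]; rfl

variable {S}

theorem mem_A {a : G} : a ∈ S.A ↔ a ∈ S.U ∧ S.t * a * S.t ∈ S.B := by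
  rw [SB.A, mem_inf, mem_cj, S.t_inv]

theorem Z_comm {z x : G} (hz : z ∈ S.Z) (hx : x ∈ S.U) : x * z = z * x := mem_C.1 (S.Z_le_C hz) x hx

theorem canon {g : G} (h : g ∉ S.B) : ∃ b ∈ S.B, ∃ u ∈ S.U, g = b * S.t * u := by
  obtain ⟨b, hb, b', hb', rfl⟩ := S.two g h
  obtain ⟨k, hk, u, hu, rfl⟩ := S.sdp.exists_mul' hb'
  exact ⟨_, mul_mem hb (S.H_le (S.tH k hk)), u, hu, by simp only [mul_assoc, S.ttm]⟩

theorem index_eq : S.B.index = S.A.relIndex S.U + 1 := by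
  have h1 : MulAction.stabilizer S.U (S.t : G ⧸ S.B) = S.A.subgroupOf S.U := by
    ext u
    rw [mem_subgroupOf, mem_A, MulAction.mem_stabilizer_iff, eq_comm]
    change ((S.t : G) : G ⧸ S.B) = ((u * S.t : G) : G ⧸ S.B) ↔ _
    rw [QuotientGroup.eq, S.t_inv, ← mul_assoc, and_iff_right u.2]
  have h2 : MulAction.orbit S.U (S.t : G ⧸ S.B) = {((1 : G) : G ⧸ S.B)}ᶜ := by
    ext x
    obtain ⟨g, rfl⟩ := QuotientGroup.mk_surjective x
    rw [Set.mem_compl_singleton_iff, ne_eq, QuotientGroup.eq, mul_one]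
    refine ⟨?_, fun h => ?_⟩
    · rintro ⟨u, e⟩ h
      have e' : ((u * S.t : G) : G ⧸ S.B) = g := e
      have := mul_mem (QuotientGroup.eq.1 e') h
      rw [mul_inv_cancel_right, inv_mem_iff, mul_mem_cancel_left (S.U_le u.2)] at this
      exact S.t_not this
    · obtain ⟨b, hb, u, hu, e⟩ := canon h
      refine ⟨⟨u⁻¹, inv_mem hu⟩, (QuotientGroup.eq.2 ?_ : ((u⁻¹ * S.t : G) : G ⧸ S.B) = g)⟩
      rw [← inv_mem_iff, mul_inv_rev, inv_inv, e]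
      simpa [mul_assoc, S.tt] using hb
  rw [relIndex, ← h1, MulAction.index_stabilizer, h2, ← Set.ncard_singleton ((1 : G) : G ⧸ S.B),
    add_comm, Set.ncard_add_ncard_compl, index]

theorem exists_Z {p : ℕ} (hp : p.Prime) (h : p ∣ Nat.card S.U) {X : Subgroup G} (hX : X ≤ S.B)
    (h2 : IsPGroup p X) : ∃ y ∈ Op p (Z S.U) ⊓ C X, y ≠ 1 := by
  refine (bot_or_exists_ne_one _).resolve_left (inf_C_ne_bot_of_isPGroup hp (isPGroup_Op' hp _) h2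
    ((S.nrm_BU.Z.Op' hp).mono hX) ?_)
  rw [Op_of_normalIn hp (normalIn_Z _)]
  exact inf_Z_ne_bot_of_nilpotent S.nil (normalIn_Op _ _)
    ((sylIn_Op_of_nilpotent hp S.nil).ne_bot hp h)

theorem two_dvd : 2 ∣ Nat.card S.U := by
  have := S.odd_idx
  rw [index_eq, Nat.odd_add_one, Nat.not_odd_iff_even] at this
  exact this.two_dvd.trans (relIndex_dvd_card' _ _)

theorem Z_ne_bot : S.Z ≠ ⊥ := by
  obtain ⟨y, hy, h⟩ := exists_Z Nat.prime_two S.two_dvd bot_le IsPGroup.of_bot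
  refine Om1_ne_bot Nat.prime_two ((prime_dvd_card_of_isPGroup Nat.prime_two
    (isPGroup_Op' Nat.prime_two _) fun e => h (mem_bot.1 (e ▸ hy.1))).trans
      (card_dvd_of_le (normalIn_Op _ _).le))

variable [IsSimpleGroup G]

theorem eq_one_of_core {x : G} (h : ∀ g, g * x * g⁻¹ ∈ S.B) : x = 1 :=
  mem_bot.1 (((normalCore_normal S.B).eq_bot_or_eq_top.resolve_right fun e =>
    S.t_not (normalCore_le _ (e ▸ mem_top _))) ▸ h)

theorem eq_bot_of_nrm {M : Subgroup G} (h1 : M ≤ S.A) (h2 : Nrm S.U M) : M = ⊥ :=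
  eq_bot_iff.2 fun x hx => mem_bot.2 (eq_one_of_core (S := S) fun g => by
    by_cases h : g ∈ S.B
    · exact Nrm.self _ g h x (S.U_le (S.A_le (h1 hx)))
    obtain ⟨b, hb, u, hu, rfl⟩ := canon h
    simpa [mul_assoc, S.t_inv] using Nrm.self _ b hb _ (mem_A.1 (h1 (h2 u hu x hx))).2)

theorem ti {y g : G} (hy : y ∈ Z S.U) (h1 : y ≠ 1) (h : g * y * g⁻¹ ∈ S.B) : g ∈ S.B := by
  by_contra n
  obtain ⟨b, hb, u, hu, rfl⟩ := canon n
  refine h1 (zpowers_eq_bot.1 (eq_bot_of_nrm (S := S) ((zpowers_le).2 (mem_A.2 ⟨hy.1, ?_⟩))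
    (nrm_of_le_Z ((zpowers_le).2 hy))))
  rw [mul_assoc _ u, mem_C.1 hy.2 u hu] at h
  simpa [mul_assoc, S.t_inv] using (Nrm.self _).conj' hb h

theorem A_inf_Z : S.A ⊓ S.Z = ⊥ :=
  eq_bot_of_nrm inf_le_left (nrm_of_le_Z (inf_le_right.trans S.Z_le_Z))

theorem C1_le {z : G} (hz : z ∈ S.Z) (h1 : z ≠ 1) : C1 z ≤ S.B := fun g hg =>
  ti (S.Z_le_Z hz) h1 (by rw [mem_C1.1 hg, mul_inv_cancel_right]; exact S.U_le (S.Z_le hz))

theorem N_Z : N S.Z = S.B := by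
  obtain ⟨z, hz, h⟩ := (bot_or_exists_ne_one _).resolve_left S.Z_ne_bot
  exact le_antisymm (fun g hg => ti (S.Z_le_Z hz) h (S.U_le (S.Z_le (conj_mem_of_mem_N hg hz))))
    S.nrm_BZ.le_N

theorem exists_syl {p : ℕ} (hp : p.Prime) (h : p ∣ Nat.card S.U) {x : G} (hx : x ∈ S.B)
    (h2 : PiE {p} x) : ∃ T ≤ S.B, SylIn p T (C1 x) ∧ ∃ y ∈ T, y ∈ Z S.U ∧ y ≠ 1 := by
  obtain ⟨T, hT⟩ := exists_sylIn p (C1 x ⊓ S.B)
  obtain ⟨y, hy, y1⟩ := exists_Z hp h (sup_le ((zpowers_le).2 hx) (hT.le.trans inf_le_right))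
    (isPGroup_sup hp ((piG_single hp).1 (piE_iff_piG.1 h2)) hT.isPGroup (.inr (nrm_of_le_C
      (C_zpowers x ▸ hT.le.trans inf_le_left))))
  have y2 := (normalIn_Op _ _).le hy.1
  have y3 : y ∈ T := hT.le_of_nrm (X := zpowers y) ((zpowers_le).2 ⟨C_zpowers x ▸
      C_anti le_sup_left hy.2, S.U_le y2.1⟩) ((isPGroup_Op' hp _).to_le ((zpowers_le).2 hy.1))
    (nrm_of_le_C (le_C_symm ((zpowers_le).2 (C_anti le_sup_right hy.2)))) (mem_zpowers y)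
  refine ⟨T, hT.le.trans inf_le_right, sylIn_of_sylIn_N hp (hT.of_le
    (le_inf (hT.le.trans inf_le_left) (le_N _)) (inf_le_inf_left _ fun g hg =>
      ti y2 y1 (hT.le (conj_mem_of_mem_N hg y3)).2)), y, y3, y2, y1⟩

/-- the centralizer of a `p`-element is transitive on its fixed points. -/
theorem trans {p : ℕ} (hp : p.Prime) (h : p ∣ Nat.card S.U) {x g : G} (hx : x ∈ S.B)
    (h2 : PiE {p} x) (hg : g⁻¹ * x * g ∈ S.B) : ∃ c ∈ C1 x, c⁻¹ * g ∈ S.B := by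
  have := Fact.mk hp
  obtain ⟨T, -, h3, y, y1, y2, y3⟩ := exists_syl hp h hx h2
  obtain ⟨T', h4, h5, -⟩ := exists_syl hp h hg (by simpa using h2.conj g⁻¹)
  have h6 := h5.cjj g
  rw [cj_C1, show g * (g⁻¹ * x * g) * g⁻¹ = x by group] at h6
  obtain ⟨c, hc, e⟩ := h3.conj h6
  have h7 := h4 (mem_cj.1 (e ▸ conj_mem_cj.2 y1))
  exact ⟨c, hc, by simpa using inv_mem (ti (g := g⁻¹ * c) y2 y3 (by simpa [mul_assoc] using h7))⟩

theorem A_t {a : G} (ha : a ∈ S.A) : S.t * a * S.t ∈ S.A := by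
  refine mem_A.2 ⟨?_, by simpa [mul_assoc, S.ttm, S.tt] using S.U_le ha.1⟩
  nth_rw 1 [← S.t_inv]
  refine mem_cj.1 (mem_of_forall_ppart fun p hp hd => ?_)
  have h1 := ppart_mem {p} ha
  obtain ⟨c, hc, e⟩ := trans hp (hd.trans (orderOf_dvd_card' ha.1)) (S.U_le h1.1) (piE_ppart _ _)
    (mem_cj.1 h1.2)
  have := S.nrm_BU.conj' e h1.1
  rwa [mul_inv_rev, inv_inv, mul_assoc _ c, mem_C1.1 hc, mul_assoc, mul_assoc,
    mul_inv_cancel_left, ← mul_assoc, ← mem_cj] at this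

theorem t_mem_N : S.t ∈ N S.A :=
  mem_N_of_cj_le fun a ha => by simpa [mul_assoc, S.ttm, S.tt, S.t_inv] using A_t (mem_cj.1 ha)

theorem two_lt : 2 < Nat.card S.Z := by
  by_contra n
  obtain ⟨z, hz, z1⟩ := (bot_or_exists_ne_one _).resolve_left S.Z_ne_bot
  have z2 := ElAb.sq S.elAb_Z hz
  have h1 := zstar (H := ⊤) trivial z1 z2 fun g _ hc => by
    have h2 := S.nrm_BZ g (ti (S.Z_le_Z hz) z1 (C1_le hz z1 (mem_C1.2 hc.eq.symm))) z hz
    by_contra e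
    refine n ((Set.two_lt_ncard_iff (s := (S.Z : Set G))).2 ⟨1, z, _, one_mem _, hz, h2, z1.symm,
      (CfsgFT.conj_ne_one z1).symm, Ne.symm e⟩)
  rcases (nrm_top_iff.1 (nrm_Opi {2}ᶜ (⊤ : Subgroup G))).eq_bot_or_eq_top with e | e
  · rw [Opc, e, bot_sup_eq, top_inf_eq] at h1
    exact S.t_not (C1_le hz z1 (h1 ▸ mem_top _))
  · exact not_dvd_card_Opc Nat.prime_two ⊤ (S.two_dvd.trans (card_dvd_of_le (le_top.trans e.ge)))

section quot
variable (S) {G' : Type u} [Group G'] [Finite G'] (φ : N S.A →* G') (hk : pre φ ⊥ = S.A)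
include hk

theorem mem_img_iff {Y : Subgroup G} (h : S.A ≤ Y) {x : N S.A} : φ x ∈ img φ Y ↔ (x : G) ∈ Y := by
  rw [← coe_mem_pre, ← img_inf_dom, pre_img_of_le inf_le_right
    (le_inf (hk.le.trans h) (pre_le _ _)), mem_inf, and_iff_left x.2]

theorem card_img_Z : Nat.card (img φ S.Z) = Nat.card S.Z :=
  card_img_of_inj (nrm_of_le_C (S.Z_le_C.trans (C_anti S.A_le))).le_N (by rw [hk, inf_comm, A_inf_Z])

/-- hypothesis (A1) for `N(A) / A`. -/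
def toSuz0 : Suz0 G' where
  X := img φ ⊤
  H := img φ S.B
  Q := img φ S.U
  D := img φ S.H
  t := φ ⟨S.t, t_mem_N⟩
  H_le := img_mono _ le_top
  t_mem := mem_img_of_mem _ _ trivial
  t_not := fun e => S.t_not ((S.mem_img_iff φ hk (S.A_le.trans S.U_le)).1 e)
  tt := by rw [← map_mul]; simp only [MulMemClass.mk_mul_mk, S.tt]; exact map_one φ
  D_eq := by
    rw [← img_cj, ← img_inf_of_ker_le' (hk.le.trans (S.A_le.trans S.U_le)), inf_cj, sup_comm,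
      ← img_sup_ker _ S.nrm_HA.le_N, hk]
  sdp := ⟨S.sdp.nrm.img φ, by rw [← img_inf_of_ker_le' (hk.le.trans S.A_le), S.sdp.inf, img_bot], by
    rw [← img_inf_dom φ S.U, ← img_sup φ inf_le_right S.nrm_HA.le_N,
      ← modular_right (.inr S.sdp.nrm) S.nrm_HA.le_N, S.sdp.sup, img_inf_dom]⟩
  two := by
    rintro _ ⟨g, -, rfl⟩ hn
    obtain ⟨b, hb, u, hu, e⟩ := canon fun e => hn (mem_img_of_mem φ g.2 e)
    have h1 : u ∈ N S.A := mem_N_of_cj_le fun a' ha' => by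
      obtain ⟨a, ha, rfl⟩ := mem_cj'.1 ha'
      refine mem_A.2 ⟨Nrm.self _ u hu a ha.1, ?_⟩
      have := (Nrm.self _).conj' hb (S.U_le (conj_mem_of_mem_N g.2 ha).1)
      simpa [e, mul_assoc, S.t_inv] using this
    have h2 : b ∈ N S.A := by
      have := g.2
      rwa [e, mul_mem_cancel_right h1, mul_mem_cancel_right t_mem_N] at this
    exact ⟨_, mem_img_of_mem φ h2 hb, _, mem_img_of_mem φ h1 (S.U_le hu), by
      rw [← map_mul, ← map_mul]; exact congrArg φ (Subtype.ext e)⟩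
  even := even_iff_two_dvd.2 ((S.card_img_Z φ hk ▸ prime_dvd_card_of_isPGroup Nat.prime_two
    S.elAb_Z.isPGroup Z_ne_bot).trans (card_dvd_of_le (img_mono _ S.Z_le)))
  odd := S.odd.of_dvd_nat (card_img_dvd _ _)

theorem img_Z_le : img φ S.Z ≤ (S.toSuz0 φ hk).Q0 := by
  rintro _ ⟨z, hz, rfl⟩
  exact Suz0.mem_Q0_of ⟨z, S.Z_le hz, rfl⟩ (by
    rw [← map_mul, ← map_one φ]; exact congrArg φ (Subtype.ext (ElAb.sq S.elAb_Z hz)))

theorem two_lt_q : 2 < (S.toSuz0 φ hk).q :=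
  (S.two_lt.trans_eq (S.card_img_Z φ hk).symm).trans_le (card_le_of_le (S.img_Z_le φ hk))

end quot

/-- `U` is a `2`-group. -/
theorem isPGroup_U [SUZ5.{u}] : IsPGroup 2 S.U := by
  obtain ⟨G', _, _, φ, hk, -⟩ := exists_quot (le_N S.A) (nrm_of_le_N le_rfl)
  obtain ⟨S', e⟩ := (S.toSuz0 φ hk).exists_suz
  have h1 := (S'.concl (e ▸ S.two_lt_q φ hk) (.inr inferInstance)).isPGroup
  rw [e] at h1
  have h2 : Opc 2 S.U ⊓ N S.A ≤ S.A := by
    refine le_trans ((img_eq_bot inf_le_right).1 ?_) hk.le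
    exact eq_bot_of_isPGroup_of_not_dvd Nat.prime_two (h1.to_le (img_mono _
      (inf_le_left.trans (Opi_le _ _)))) fun e => not_dvd_card_Opc Nat.prime_two S.U
        (e.trans ((card_img_dvd _ _).trans (card_dvd_of_le inf_le_left)))
  have h3 := (normalIn_Opi {2}ᶜ S.U).nrm
  have h4 : S.A ⊔ Opc 2 S.U ≤ S.U := sup_le S.A_le (Opi_le _ _)
  have h5 := eq_of_nilpotent_of_N_le (nilpotent_of_le S.nil h4) le_sup_left (by
    rw [modular_left (.inl (h3.mono S.A_le)) (le_N _)]; exact sup_le le_rfl h2)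
  have h6 := (dp_Op_of_nilpotent Nat.prime_two S.nil).sup
  rw [eq_bot_of_nrm (le_sup_right.trans h5.ge) h3, sup_bot_eq] at h6
  exact h6 ▸ isPGroup_Op' Nat.prime_two _

theorem exists_K (h2 : IsPGroup 2 S.U) : ∃ K ≤ S.H ⊓ C S.A, Nat.card K + 1 = Nat.card S.Z ∧
    (∀ z ∈ S.Z, z ≠ 1 → ∀ z' ∈ S.Z, z' ≠ 1 → ∃ k ∈ K, k * z * k⁻¹ = z') ∧
    ∀ k ∈ K, k ≠ 1 → S.U ⊓ C1 k ≤ S.A := by
  obtain ⟨G', _, _, φ, hk, -⟩ := exists_quot (le_N S.A) (nrm_of_le_N le_rfl)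
  set S' := S.toSuz0 φ hk
  have hq := S.two_lt_q φ hk
  have hZ : S.Z ≤ N S.A := (nrm_of_le_C (S.Z_le_C.trans (C_anti S.A_le))).le_N
  have hH := S.nrm_HA.le_N
  have i1 : S.H ⊓ pre φ ⊥ = ⊥ := by
    rw [hk, inf_comm]; exact eq_bot_iff.2 ((inf_le_inf_right _ S.A_le).trans S.sdp.inf.le)
  have i2 : S.Z ⊓ pre φ ⊥ = ⊥ := by rw [hk, inf_comm, A_inf_Z]
  have n1 : ∀ {X}, X ⊓ pre φ ⊥ = ⊥ → ∀ x ∈ X, ∀ h, φ ⟨x, h⟩ = 1 → x = 1 := fun i x hx h e =>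
    mem_bot.1 (i ▸ mem_inf.2 ⟨hx, coe_mem_ker.1 e⟩)
  have e1 : img φ (S.H ⊓ pre φ S'.K) = S'.K := by
    rw [img_inf_pre, inf_eq_right]; exact Suz0.K_le_D
  have e2 : img φ S.Z = S'.Q0 := (Suz0.minNrm_Q0 (fun k hk => S'.D_le_H hk.1) le_rfl).2.2 _
    (S.img_Z_le φ hk) (fun e => Z_ne_bot ((img_eq_bot_of_inj hZ i2).1 e)) (S.nrm_BZ.img φ)
  have e3 : S.H ⊓ pre φ S'.K ≤ C S.A := by
    obtain ⟨z, hz, z1⟩ := (bot_or_exists_ne_one _).resolve_left S.Z_ne_bot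
    have h3 : S.t * z * S.t⁻¹ ∈ C S.A :=
      nrm_N_C _ _ t_mem_N _ (C_anti S.A_le (S.Z_le_C hz))
    have h4 := (Suz0.le_of_nrm hq (img_mono φ le_top) (M := img φ (C S.A))
      (by rw [show S'.X = img φ (N S.A) from (img_inf_dom φ ⊤).symm.trans (by rw [top_inf_eq])]
          exact (nrm_N_C _).img φ) fun e => S.t_not (ti (S.Z_le_Z hz) z1
        ((S.mem_img_iff φ hk (S.A_le.trans S.U_le)).1 (e (mem_img_of_mem φ (C_le_N _ h3) h3))))).2.2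
    have h5 : S.H ⊓ pre φ S'.K ≤ C S.A ⊔ S.A := by
      have := pre_img φ (C_le_N S.A)
      rw [hk] at this
      exact inf_le_right.trans ((pre_mono _ h4).trans this.le)
    refine le_of_coprime_relIndex h5 ((nrm_N_C _).mono (sup_le (C_le_N _) (le_N _))) ?_
    rw [relIndex_sup (.inr ((nrm_N_C _).mono (le_N _)))]
    exact (coprime_of_odd (odd_of_le S.odd inf_le_left) (h2.to_le S.A_le)).coprime_dvd_right
      (relIndex_dvd_card' _ _)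
  refine ⟨S.H ⊓ pre φ S'.K, le_inf inf_le_left e3, ?_, fun z hz z1 z' hz' z2 => ?_,
    fun k hk' k1 => ?_⟩
  · rw [← card_img_of_inj (f := φ) (inf_le_left.trans hH)
      (eq_bot_iff.2 ((inf_le_inf_right _ inf_le_left).trans i1.le)), e1, Suz0.card_K_succ, Suz0.q,
      ← e2, S.card_img_Z φ hk]
  · obtain ⟨_, h3, e⟩ := Suz0.exists_Ks_conj' (e2 ▸ mem_img_of_mem φ (hZ hz) hz)
      (fun e => z1 (n1 i2 z hz _ e)) (e2 ▸ mem_img_of_mem φ (hZ hz') hz')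
      fun e => z2 (n1 i2 z' hz' _ e)
    obtain ⟨k, hk', rfl⟩ := e1.ge (Suz0.Ks_le_K h3)
    refine ⟨k, hk', mul_inv_eq_one.1 (n1 i2 _ (mul_mem (S.nrm_BZ _ (S.H_le hk'.1) z hz)
      (inv_mem hz')) (mul_mem (mul_mem (mul_mem k.2 (hZ hz)) (inv_mem k.2)) (inv_mem (hZ hz'))) ?_)⟩
    rw [← mul_inv_eq_one, ← map_inv, ← map_mul, ← map_mul, ← map_inv, ← map_mul] at e
    exact e
  · have h3 : S.A ≤ S.U ⊓ C1 k := le_inf S.A_le fun a ha => mem_C1.2 (mem_C.1 (e3 hk') a ha)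
    refine (eq_of_nilpotent_of_N_le (nilpotent_of_le S.nil inf_le_left) h3 fun x hx => ?_).ge
    rw [← hk, ← coe_mem_ker (g := ⟨x, hx.2⟩)]
    refine Suz0.semiReg_QK.eq_one (e1 ▸ mem_img_of_mem φ (hH hk'.1) hk')
      (fun e => k1 (n1 i1 k hk'.1 _ e)) (mem_img_of_mem φ hx.2 hx.1.1) ?_
    rw [← map_mul, ← map_mul]; exact congrArg φ (Subtype.ext (mem_C1.1 hx.1.2))

end SB

end CfsgSZ
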