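import Cfsg.Agent.SZ.BN_a
import Cfsg.Agent.H8.Count

set_option autoImplicit false
set_option linter.unusedSectionVars false

/-! Split `BN`-pairs of rank one: `U` is regular (counting involutions). -/

namespace CfsgSZ

open Subgroup CfsgH5 CfsgH6 CfsgFT
open scoped commutatorElement

universe u

theorem ncard_eq_mul_of_rel {α β : Type*} [Finite α] [Finite β] {A : Set α} {B : Set β}
    (R : α → β → Prop) {k : ℕ} (h1 : ∀ a ∈ A, ∃ b ∈ B, R a b)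
    (h2 : ∀ a ∈ A, ∀ b ∈ B, ∀ b' ∈ B, R a b → R a b' → b = b')
    (h3 : ∀ b ∈ B, {a | a ∈ A ∧ R a b}.ncard = k) : A.ncard = B.ncard * k := by
  choose f hf hf' using h1
  refine CfsgH8.card_eq_of_fibers (fun a : A => (⟨f a a.2, hf a a.2⟩ : B)) fun b => ?_
  rw [← h3 b b.2]
  exact Nat.card_congr ⟨fun a => ⟨a.1, a.1.2, congrArg Subtype.val a.2 ▸ hf' _ a.1.2⟩,
    fun a => ⟨⟨a, a.2.1⟩, Subtype.ext (h2 _ a.2.1 _ (hf _ _) _ b.2 (hf' _ _) a.2.2)⟩,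
    fun _ => rfl, fun _ => rfl⟩

theorem num_BN {r f k j : ℕ} (hq : r + 1 = 2 ^ j) (h2 : 1 < r)
    (h : r * (2 ^ k + 1) = r * f + r * f * (r * f - r)) (hf : r + 1 ∣ f - 1) (h1 : 1 < f) :
    f = r + 2 ∧ 2 ^ k = (r + 1) ^ 3 := by
  obtain ⟨m, hm⟩ := hf
  obtain rfl : f = (r + 1) * m + 1 := by omega
  have h3 : 2 ^ k = (r + 1) ^ 2 * (m * (1 + r * m)) := by
    rw [show r * ((r + 1) * m + 1) - r = r * ((r + 1) * m) by rw [mul_add, mul_one]; omega] at h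
    refine Nat.eq_of_mul_eq_mul_left (by omega : 0 < r) ?_
    linarith
  have h4 : m ≠ 0 := by rintro rfl; omega
  have h5 : ∀ n, n ∣ m * (1 + r * m) → Odd n → n = 1 := fun n hn ho =>
    ((Nat.coprime_two_right.2 ho).pow_right k).eq_one_of_dvd (h3 ▸ hn.mul_left _)
  obtain rfl : m = 1 := by
    rcases Nat.even_or_odd m with h6 | h6
    · have := h5 _ (dvd_mul_left _ _) (odd_one.add_even (h6.mul_left r))
      have := Nat.mul_ne_zero (by omega : r ≠ 0) h4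
      omega
    · exact h5 _ (dvd_mul_right _ _) h6
  exact ⟨by ring, by rw [h3]; ring⟩

variable {G : Type u} [Group G] [Finite G]

theorem dvd_relIndex_sub_one {A B K : Subgroup G} (h1 : Nrm B A) (h2 : Nrm K A) (h3 : Nrm K B)
    (hle : A ≤ B) (hc : (Nat.card B).Coprime (Nat.card K)) (h : ∀ k ∈ K, k ≠ 1 → B ⊓ C1 k ≤ A) :
    Nat.card K ∣ A.relIndex B - 1 := by
  have i : K ⊓ A = ⊥ := inf_eq_bot_of_coprime' (coprime_of_le hc hle le_rfl).symm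
  rw [← card_quo h1, ← card_quo_of_inf_eq_bot h2 i]
  refine SemiReg.card_dvd (fun _ hk0 k1 => ?_) (h3.quo A)
  obtain ⟨k, hk, hk', rfl⟩ := mem_img'.1 hk0
  rw [← quo_inf_C1_of_coprime hk' ((coprime_of_le hc hle le_rfl).coprime_dvd_right
    (orderOf_dvd_card' hk)) hle]
  exact quo_eq_bot_of_le (h k hk fun e => k1 (qm_eq_one.2 (e ▸ one_mem _)))

namespace SB

variable [IsSimpleGroup G] (S : SB G)

/-- the class of the central involutions of `U`. -/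
protected def I : Set G := clSupp (sharp S.Z) ⊤
/-- the number of central involutions commuting with `x`. -/
noncomputable def cnt (x : G) : ℕ := {d | d ∈ S.I ∧ d * x = x * d}.ncard

variable {S}

theorem I_of {z : G} (hz : z ∈ S.Z) (h : z ≠ 1) : z ∈ S.I := subset_clSupp _ _ ⟨hz, h⟩
theorem I_conj {d : G} (h : d ∈ S.I) (g : G) : g * d * g⁻¹ ∈ S.I := clSupp_conj_mem h trivial
theorem I_conj' {d : G} (h : d ∈ S.I) (g : G) : g⁻¹ * d * g ∈ S.I := by simpa using I_conj h g⁻¹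
theorem I_sq {d : G} (h : d ∈ S.I) : d * d = 1 := by
  obtain ⟨z, hz, g, -, rfl⟩ := h
  rw [conj_mul, ElAb.sq S.elAb_Z hz.1]; group
theorem I_B {d : G} (h : d ∈ S.I) (h1 : d ∈ S.B) : d ∈ sharp S.Z := by
  obtain ⟨z, hz, g, -, rfl⟩ := h
  exact ⟨S.nrm_BZ g (ti (S.Z_le_Z hz.1) hz.2 h1) z hz.1, conj_ne_one hz.2⟩
theorem tI : NormedTI (sharp S.Z) ⊤ S.B := ⟨sharp_nonempty.2 Z_ne_bot, le_top,
  fun l hl a ha => ⟨S.nrm_BZ l hl a ha.1, conj_ne_one ha.2⟩,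
  fun _ _ _ ha h => ti (S.Z_le_Z ha.1) ha.2 (S.U_le (S.Z_le h.1))⟩

theorem ncard_conj {P Q : G → Prop} (g : G) (h : ∀ d, P d ↔ Q (g * d * g⁻¹)) :
    {d | d ∈ S.I ∧ Q d}.ncard = {d | d ∈ S.I ∧ P d}.ncard := by
  rw [← Set.ncard_image_of_injective {d | d ∈ S.I ∧ P d} (MulAut.conj g).injective]
  congr 1
  ext d
  refine ⟨fun hd => ⟨g⁻¹ * d * g, ⟨I_conj' hd.1 g, (h _).2 (by simpa [mul_assoc] using hd.2)⟩,
    by simp [mul_assoc]⟩, ?_⟩
  rintro ⟨d, hd, rfl⟩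
  exact ⟨I_conj hd.1 g, (h _).1 hd.2⟩

theorem cnt_conj (g x : G) : S.cnt (g * x * g⁻¹) = S.cnt x :=
  ncard_conj g fun d => by rw [conj_mul, conj_mul, mul_left_inj, mul_right_inj]

theorem cnt_I {d : G} (h : d ∈ S.I) : S.cnt d = Nat.card S.Z - 1 := by
  obtain ⟨z, hz, g, -, rfl⟩ := h
  rw [cnt_conj, ← ncard_sharp, cnt]
  congr 1
  ext d
  exact ⟨fun h => I_B h.1 (C1_le hz.1 hz.2 (mem_C1.2 h.2)),
    fun h => ⟨I_of h.1 h.2, Z_comm hz.1 (S.Z_le h.1)⟩⟩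

variable (h2 : IsPGroup 2 S.U)
include h2

theorem sylU : SylIn 2 S.U ⊤ := sylIn_of_not_dvd le_top h2 (by
  rw [← relIndex_mul_relIndex _ _ _ S.U_le le_top, S.sdp.relIndex_left, relIndex_top_right]
  exact (S.odd.mul S.odd_idx).not_two_dvd_nat)

theorem mem_U {x : G} (hx : x ∈ S.B) (h : x * x = 1) : x ∈ S.U :=
  (sylU h2).le_of_nrm' Nat.prime_two le_top (isPGroup_zpowers_of_sq h)
    (S.nrm_BU.mono ((zpowers_le).2 hx)) (mem_zpowers x)

theorem I_odd {d d' : G} (h : d ∈ S.I) (h' : d' ∈ S.I) (n : d * d' ≠ d' * d) :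
    Odd (orderOf (d * d')) := by
  have sc : SC S.U S.Z := ⟨sylU h2, S.Z_le, S.elAb_Z, fun v hv g _ h => by
    by_cases e : v = 1
    · simp [e]
    · exact (I_B (I_conj (I_of hv e) g) (S.U_le h)).1⟩
  obtain ⟨z, hz, g, -, rfl⟩ := h
  obtain ⟨z', hz', g', -, e⟩ := I_conj' h' g
  have := sc.odd_mul N_Z.le (fun _ => C1_le) (.of_mem hz.1) hz.2 (S.U_le (S.Z_le hz.1))
    ⟨z', hz'.1, g', e⟩ fun h => n (by
      have := Z_comm hz.1 (S.Z_le (I_B (I_conj' h' g) h).1)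
      rw [show d' * (g * z * g⁻¹) = g * (g⁻¹ * d' * g * z) * g⁻¹ by group, this]; group)
  rwa [show g * z * g⁻¹ * d' = g * (z * (g⁻¹ * d' * g)) * g⁻¹ by group, ← MulAut.conj_apply,
    MulEquiv.orderOf_eq]

theorem exists_I {e d : G} (he : e * e = 1) (hd : d ∈ S.I) (n : d * e ≠ e * d) :
    ∃ d' ∈ {d | d ∈ S.I ∧ d * e = e * d}, d * (e * d') = e * d' * d ∧ d * d' ≠ d' * d := by
  have ei := inv_eq_of_sq he
  have di := inv_eq_of_sq (I_sq hd)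
  obtain ⟨j, hj⟩ := I_odd h2 hd (I_conj hd e) fun h => n (by
    obtain ⟨z, hz, g, -, rfl⟩ := hd
    have h1 : g⁻¹ * e * g ∈ S.B := ti (S.Z_le_Z hz.1) hz.2 (C1_le hz.1 hz.2 (mem_C1.2 (by
      rw [← mul_left_inj g⁻¹, ← mul_right_inj g]
      convert h.symm using 1 <;> group)))
    have := Z_comm hz.1 (mem_U h2 h1 (by
      rw [show g⁻¹ * e * g * (g⁻¹ * e * g) = g⁻¹ * (e * e) * g by group, he]; group))
    rw [show e * (g * z * g⁻¹) = g * (g⁻¹ * e * g * z) * g⁻¹ by group, this]; group)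
  have h1 : (d * e) ^ (2 * j + 1) * (d * e) ^ (2 * j + 1) = 1 := by
    rw [← sq, ← pow_mul, mul_comm, pow_mul, ← hj, sq, ← pow_orderOf_eq_one (d * (e * d * e⁻¹)), ei]
    simp only [mul_assoc]
  have h3 := conj_pow_inv (u := e) (c := d * e) (by rw [mul_inv_rev, di, ei, mul_assoc, mul_assoc,
    he, mul_one]) (2 * j + 1)
  have h4 := conj_pow_inv (u := d) (c := d * e) (by rw [mul_inv_rev, di, ei, ← mul_assoc,
    I_sq hd, one_mul]) (2 * j + 1)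
  rw [inv_eq_of_sq h1, mul_inv_eq_iff_eq_mul] at h3 h4
  refine ⟨e * (d * e) ^ (2 * j + 1), ⟨?_, by rw [mul_assoc, ← h3]⟩, by
    rw [← mul_assoc e, he, one_mul, h4], fun h => n ?_⟩
  · convert I_conj' hd (e * (d * e) ^ j) using 1
    rw [mul_inv_rev, ei, ← conj_pow_inv (u := e) (c := d * e) (by
      rw [mul_inv_rev, di, ei, mul_assoc, mul_assoc, he, mul_one]) j, ei, two_mul, add_assoc,
      add_comm j 1, pow_add, pow_add, pow_one]
    simp only [mul_assoc, ← mul_assoc e e, he, one_mul]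
  · rwa [mul_assoc e, ← h4, ← mul_assoc, ← mul_assoc, mul_left_inj] at h

theorem uniq_I {e d d' : G} (he : e * e = 1) (hd : d ∈ S.I) (h1 : d' ∈ S.I) (h3 : d' * e = e * d')
    (h4 : d * (e * d') = e * d' * d) {n : ℕ} (hn : Odd n) (h5 : orderOf (d * d') ∣ n) :
    (d * e) ^ n = e * d' := by
  have h6 : e * d' * (e * d') = 1 := by
    rw [mul_assoc, ← mul_assoc d', h3, mul_assoc, I_sq h1, mul_one, he]
  have h7 : Commute (d * d') (e * d') :=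
    Commute.mul_left h4 (by rw [commute_iff_eq, ← mul_assoc, h3])
  obtain ⟨j, rfl⟩ := hn
  rw [show d * e = d * d' * (e * d') by rw [← h3, mul_assoc, ← mul_assoc d', I_sq h1, one_mul],
    h7.mul_pow, orderOf_dvd_iff_pow_eq_one.1 h5, one_mul, pow_succ, pow_mul, sq, h6, one_pow, one_mul]

theorem exists_conj_Z {e d : G} (hB : e ∈ S.B) (he : e * e = 1) (hd : d ∈ S.I) (h : d * e = e * d) :
    ∃ c ∈ C1 e, c⁻¹ * d * c ∈ sharp S.Z := by
  obtain ⟨z, hz, g, -, rfl⟩ := hd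
  obtain ⟨c, hc, h1⟩ := trans Nat.prime_two S.two_dvd hB (g := g)
    (piE_of_pow_eq_one (n := 2) (by rw [sq, he]) ((piN_prime Nat.prime_two).2 rfl))
    (C1_le hz.1 hz.2 (mem_C1.2 (by
      rw [← mul_left_inj g⁻¹, ← mul_right_inj g]
      convert h.symm using 1 <;> group)))
  exact ⟨c, hc, by simpa [mul_assoc] using tI.conj_mem h1 hz⟩

theorem exists_conj_A {x d : G} (hB : x ∈ S.B) (hx : x * x = 1) (hd : d ∈ S.I) (n : d * x ≠ x * d) :
    ∃ z ∈ sharp S.Z, ∃ u ∈ S.U, u * (x * z) * u⁻¹ ∈ S.A := by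
  obtain ⟨d', ⟨h1, h3⟩, h4, h5⟩ := exists_I h2 hx hd n
  obtain ⟨c, hc, hz⟩ := exists_conj_Z h2 hB hx h1 h3
  obtain ⟨z, hz', g, -, e⟩ := I_conj' hd c
  have xU := mem_U h2 hB hx
  have h6 : g⁻¹ ∉ S.B := fun h => h5 (by
    have := Z_comm hz.1 (S.Z_le (e ▸ S.nrm_BZ g (inv_mem_iff.1 h) z hz'.1))
    rw [← mul_left_inj c, ← mul_right_inj c⁻¹]
    convert this using 1 <;> group)
  obtain ⟨b, hb, u, hu, e'⟩ := canon h6
  refine ⟨_, hz, u, hu, mem_A.2 ⟨Nrm.self _ u hu _ (mul_mem xU (S.Z_le hz.1)), ?_⟩⟩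
  have h7 : g⁻¹ * (x * (c⁻¹ * d' * c)) * g ∈ S.B := C1_le hz'.1 hz'.2 (mem_C1.2 (by
    rw [show x * (c⁻¹ * d' * c) = c⁻¹ * (x * d') * c by
      rw [← mul_assoc, ← mul_assoc, ← mem_C1.1 (inv_mem hc)]; group,
      show z = g⁻¹ * (c⁻¹ * d * c) * g by rw [e]; group, ← mul_left_inj (g⁻¹ * c⁻¹),
      ← mul_right_inj (c * g)]
    convert h4.symm using 1 <;> group))
  rw [← inv_inv g, e', inv_inv] at h7
  simpa [mul_assoc, S.t_inv] using (Nrm.self _).conj' hb h7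

omit h2 in
theorem exists_I_ne {x : G} (h : x ≠ 1) : ∃ d ∈ S.I, d * x ≠ x * d := by
  by_contra n
  push Not at n
  obtain ⟨z, hz, z1⟩ := (bot_or_exists_ne_one _).resolve_left S.Z_ne_bot
  refine h (eq_one_of_core (S := S) fun g => C1_le hz z1 (mem_C1.2 ?_))
  rw [← mul_left_inj g, ← mul_right_inj g⁻¹]
  convert (n _ (I_conj' (I_of hz z1) g)).symm using 1 <;> group

omit h2 in
theorem not_mem_Z {e : G} (he : e ∈ S.A) (h : e ≠ 1) : e ∉ S.Z := fun h' =>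
  h (mem_bot.1 (A_inf_Z (S := S) ▸ mem_inf.2 ⟨he, h'⟩))

variable {K : Subgroup G} (hK : K ≤ S.H ⊓ C S.A)
  (ht : ∀ z ∈ S.Z, z ≠ 1 → ∀ z' ∈ S.Z, z' ≠ 1 → ∃ k ∈ K, k * z * k⁻¹ = z')
include hK ht

omit h2 in
theorem conj_mul_Z {e z z' : G} (he : e ∈ S.A) (hz : z ∈ S.Z) (z1 : z ≠ 1) (hz' : z' ∈ S.Z)
    (z2 : z' ≠ 1) : ∃ k ∈ K, k * (e * z) * k⁻¹ = e * z' := by
  obtain ⟨k, hk, rfl⟩ := ht z hz z1 z' hz' z2
  exact ⟨k, hk, by rw [← mul_assoc, ← mem_C.1 (hK hk).2 e he]; group⟩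

theorem mul_Z_conj {e z : G} (he : e ∈ S.A) (e1 : e ≠ 1) (e2 : e * e = 1) (hz : z ∈ S.Z) :
    ∃ u ∈ S.U, u * (e * z) * u⁻¹ ∈ S.A := by
  by_cases z1 : z = 1
  · exact ⟨1, one_mem _, by simpa [z1] using he⟩
  obtain ⟨d, hd, n⟩ := exists_I_ne (S := S) e1
  obtain ⟨z', hz', u, hu, h⟩ := exists_conj_A h2 (S.U_le he.1) e2 hd n
  obtain ⟨k, hk, h'⟩ := conj_mul_Z hK ht he hz'.1 hz'.2 hz z1
  refine ⟨_, S.sdp.nrm k (hK hk).1 u hu, ?_⟩
  convert S.nrm_HA k (hK hk).1 _ h using 1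
  rw [← h']; group

theorem conj_A {x : G} (hx : x ∈ S.U) (x2 : x * x = 1) (n : x ∉ S.Z) :
    ∃ u ∈ S.U, u * x * u⁻¹ ∈ S.A := by
  obtain ⟨z, hz, z1⟩ := (bot_or_exists_ne_one _).resolve_left S.Z_ne_bot
  by_cases h : S.t * z * S.t⁻¹ * x = x * (S.t * z * S.t⁻¹)
  · refine ⟨1, one_mem _, mem_A.2 ⟨by simpa using hx, C1_le hz z1 (mem_C1.2 ?_)⟩⟩
    rw [← mul_left_inj S.t, ← mul_right_inj S.t]
    simpa [mul_assoc, S.t_inv, S.ttm, S.tt] using h.symm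
  obtain ⟨z', hz', u, hu, h3⟩ := exists_conj_A h2 (S.U_le hx) x2 (I_conj (I_of hz z1) _) h
  have z2 := ElAb.sq S.elAb_Z hz'.1
  obtain ⟨v, hv, h4⟩ := mul_Z_conj h2 hK ht h3 (conj_ne_one fun e => n (by
    rw [mul_eq_one_iff_eq_inv.1 e]; exact inv_mem hz'.1)) (by
      rw [conj_mul, mul_assoc x, ← mul_assoc z', ← Z_comm hz'.1 hx, mul_assoc x z', z2, mul_one, x2]
      group) hz'.1
  refine ⟨_, mul_mem hv hu, ?_⟩
  convert h4 using 1
  rw [mul_assoc _ u⁻¹, Z_comm hz'.1 (inv_mem hu)]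
  simp only [mul_assoc, ← mul_assoc z' z', z2, one_mul, mul_inv_rev]

theorem cnt_mul {e z : G} (he : e ∈ S.A) (e1 : e ≠ 1) (e2 : e * e = 1) (hz : z ∈ S.Z) :
    S.cnt (e * z) = S.cnt e := by
  by_cases z1 : z = 1
  · rw [z1, mul_one]
  obtain ⟨y, hy, y1, y2⟩ : ∃ y ∈ S.Z, y ≠ 1 ∧ y ≠ z := by
    by_contra n
    push Not at n
    refine S.two_lt.not_ge ((Set.ncard_le_ncard (s := S.Z) (t := {1, z}) fun y hy => ?_).trans
      ((Set.ncard_insert_le _ _).trans_eq (by rw [Set.ncard_singleton])))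
    by_cases h : y = 1
    exacts [.inl h, .inr (n y hy h)]
  obtain ⟨u, hu, h⟩ := mul_Z_conj h2 hK ht he e1 e2 hy
  have y3 := ElAb.sq S.elAb_Z hy
  obtain ⟨k, -, h'⟩ := conj_mul_Z hK ht h hy y1 (mul_mem hy hz) fun e => y2 (by
    rw [← mul_left_inj y, y3, ← e, Z_comm hz (S.Z_le hy)])
  have h3 : ∀ x ∈ S.Z, u * (e * y) * u⁻¹ * (y * x) = u * (e * x) * u⁻¹ := fun x hx => by
    rw [mul_assoc _ u⁻¹, Z_comm (mul_mem hy hx) (inv_mem hu)]
    simp only [mul_assoc, ← mul_assoc y y, y3, one_mul]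
  have h4 := h3 1 (one_mem _)
  rw [mul_one, mul_one] at h4
  rw [h3 z hz, h4] at h'
  rw [← cnt_conj u, ← h', cnt_conj, cnt_conj]

theorem count {e : G} (he : e ∈ S.A) (e1 : e ≠ 1) (e2 : e * e = 1) :
    S.I.ncard = S.cnt e + S.cnt e * (S.cnt e - (Nat.card S.Z - 1)) := by
  have h1 := ncard_eq_mul_of_rel (A := {d | d ∈ S.I ∧ d * e ≠ e * d})
    (B := {d | d ∈ S.I ∧ d * e = e * d}) (k := S.cnt e - (Nat.card S.Z - 1))
    (fun d d' => d * (e * d') = e * d' * d ∧ d * d' ≠ d' * d)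
    (fun d hd => exists_I h2 e2 hd.1 hd.2) (fun d hd a ha b hb h h' => by
      have o := (I_odd h2 hd.1 ha.1 h.2).mul (I_odd h2 hd.1 hb.1 h'.2)
      exact mul_left_cancel ((uniq_I h2 e2 hd.1 ha.1 ha.2 h.1 o (dvd_mul_right _ _)).symm.trans
        (uniq_I h2 e2 hd.1 hb.1 hb.2 h'.1 o (dvd_mul_left _ _)))) fun a ha => by
      obtain ⟨c, hc, hz⟩ := exists_conj_Z h2 (S.U_le he.1) e2 ha.1 ha.2
      have h3 : S.cnt (e * a) = S.cnt e := by
        rw [← cnt_mul h2 hK ht he e1 e2 hz.1, ← cnt_conj c (e * (c⁻¹ * a * c)), ← mul_assoc c,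
          mem_C1.1 hc]
        congr 1; group
      have h4 : {d | d ∈ S.I ∧ d * a = a * d} ⊆ {d | d ∈ S.I ∧ d * (e * a) = e * a * d} :=
        fun d hd => ⟨hd.1, by
          have := Z_comm (I_B (I_conj' hd.1 c) (C1_le hz.1 hz.2 (mem_C1.2 (by
            rw [← mul_left_inj c⁻¹, ← mul_right_inj c]
            convert hd.2 using 1 <;> group)))).1 he.1
          have h5 : d * e = e * d := by
            rw [← mul_left_inj c, ← mul_right_inj c⁻¹, mul_assoc d, ← mem_C1.1 hc, ← mul_assoc c⁻¹,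
              ← mul_assoc c⁻¹ (e * d), ← mul_assoc c⁻¹ e, mem_C1.1 (inv_mem hc)]
            simpa only [mul_assoc] using this.symm
          rw [← mul_assoc, h5, mul_assoc, hd.2, mul_assoc]⟩
      rw [← h3, ← cnt_I ha.1, cnt, cnt, ← Set.ncard_sdiff h4]
      congr 1
      ext d
      refine ⟨fun h => ⟨⟨h.1.1, h.2.1⟩, fun h' => h.2.2 h'.2⟩, fun h => ⟨⟨h.1.1, fun h' => ?_⟩,
        h.1.2, fun h' => h.2 ⟨h.1.1, h'⟩⟩⟩
      have := h.1.2
      rw [← mul_assoc, h', mul_assoc, mul_assoc, mul_right_inj] at this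
      exact h.2 ⟨h.1.1, this⟩
  change _ = {d | d ∈ S.I ∧ d * e = e * d}.ncard + {d | d ∈ S.I ∧ d * e = e * d}.ncard * _
  rw [← h1, ← Set.ncard_union_eq (Set.disjoint_left.2 fun d h h' => h'.2 h.2)]
  congr 1
  ext d
  simp only [Set.mem_union, Set.mem_ofPred_eq]
  tauto

/-- `|U : A| = q³` and `C_U(e) = Z A`. -/
theorem cent_le {e : G} (he : e ∈ S.A) (e1 : e ≠ 1) (e2 : e * e = 1) :
    S.A.relIndex S.U = Nat.card S.Z ^ 3 ∧ S.U ⊓ C1 e ≤ S.Z ⊔ S.A := by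
  have := S.two_lt
  obtain ⟨r, hr⟩ : ∃ r, Nat.card S.Z = r + 1 := ⟨Nat.card S.Z - 1, by omega⟩
  have hZ : S.Z ≤ C1 e := fun z hz => mem_C1.2 (Z_comm hz he.1).symm
  have h1 : {d | d ∈ S.I ∧ d * e = e * d} = clSupp (sharp S.Z) (C1 e) := by
    ext d
    refine ⟨fun h => ?_, fun h => ⟨clSupp_mono le_rfl le_top h, mem_C1.1
      (clSupp_subset_subgroup (fun _ h => hZ h.1) (Nrm.self _) h)⟩⟩
    obtain ⟨c, hc, h⟩ := exists_conj_Z h2 (S.U_le he.1) e2 h.1 h.2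
    exact ⟨_, h, c, hc, by group⟩
  have h3 : S.cnt e = r * S.B.relIndex (C1 e) := by
    rw [cnt, h1, ((tI (S := S)).inf le_top).ncard_clSupp, ncard_sharp, hr, inf_relIndex_right]; rfl
  have t1 := ((tI (S := S)).cj_sharp S.t).inf (H := S.Z) (by rw [CfsgH6.cj_top]; exact le_top)
  have h4 : cj S.t S.B ⊓ S.Z = ⊥ := by
    rw [← A_inf_Z, SB.A, inf_right_comm, inf_eq_right.2 S.Z_le, inf_comm]
  have h5 : clSupp (sharp (cj S.t S.Z)) S.Z ⊆ clSupp (sharp S.Z) (C1 e) \ sharp S.Z := by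
    rintro _ ⟨x, hx, y, hy, rfl⟩
    obtain ⟨z, hz, rfl⟩ := mem_cj'.1 hx.1
    have z1 : z ≠ 1 := fun e => hx.2 (by simp [e])
    refine ⟨clSupp_conj_mem (h1 ▸ ⟨I_conj (I_of hz z1) _, ?_⟩) (hZ hy), fun h => S.t_not
      (ti (S.Z_le_Z hz) z1 (by
        simpa [mul_assoc] using (Nrm.self _).conj' (S.U_le (S.Z_le hy)) (S.U_le (S.Z_le h.1))))⟩
    rw [← mul_left_inj S.t, ← mul_right_inj S.t]
    simpa [mul_assoc, S.t_inv, S.ttm, S.tt] using (Z_comm hz (A_t he).1).symm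
  have h6 : (clSupp (sharp S.Z) (C1 e) \ sharp S.Z).ncard = r * (S.B.relIndex (C1 e) - 1) := by
    rw [Set.ncard_sdiff (subset_clSupp _ _), ← h1, ncard_sharp, hr, Nat.mul_sub_one, ← h3]; rfl
  have h7 : (clSupp (sharp (cj S.t S.Z)) S.Z).ncard = r * (r + 1) := by
    rw [t1.ncard_clSupp, h4, relIndex_bot_left, ncard_sharp, card_cj, hr]; rfl
  have h8 : r + 1 ∣ r * (S.B.relIndex (C1 e) - 1) := by
    rw [← h6, ← hr]
    refine card_dvd_ncard_of_free (fun z hz a ha => ⟨clSupp_conj_mem ha.1 (hZ hz), fun h => ha.2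
      (by simpa [mul_assoc] using (tI (S := S)).conj_mem (inv_mem (S.U_le (S.Z_le hz))) h)⟩)
      fun z hz a ha h => by_contra fun z1 => ha.2 (I_B (clSupp_mono le_rfl le_top ha.1)
        (C1_le hz z1 (mem_C1.2 (mul_inv_eq_iff_eq_mul.1 h).symm)))
  obtain ⟨j, hj⟩ := exists_card_eq_pow Nat.prime_two (h2.to_le S.Z_le)
  obtain ⟨k, hk⟩ := exists_relIndex_eq_pow Nat.prime_two h2 S.A
  have h9 := count h2 hK ht he e1 e2
  rw [h3, SB.I, (tI (S := S)).ncard_clSupp, relIndex_top_right, index_eq, hk, ncard_sharp, hr] at h9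
  have h10 := Set.ncard_le_ncard h5
  rw [h6, h7] at h10
  obtain ⟨h11, h12⟩ := num_BN (hr ▸ hj) (by omega) h9
    ((show (r + 1).Coprime r by simp).dvd_of_dvd_mul_left h8)
    (by have := Nat.le_of_mul_le_mul_left h10 (by omega); omega)
  refine ⟨by rw [hk, hr, h12]; rfl, fun x hx => ?_⟩
  have h13 := Set.eq_of_subset_of_ncard_le h5 (by rw [h6, h7, h11]; rfl)
  obtain ⟨d, hd⟩ := t1.nonempty
  obtain ⟨hd1, hd2⟩ := h5 (subset_clSupp _ _ hd)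
  obtain ⟨a, ha, y, hy, h⟩ := h13.ge ⟨clSupp_conj_mem hd1 hx.2, fun h => hd2
    (by simpa [mul_assoc] using (tI (S := S)).conj_mem (inv_mem (S.U_le hx.1)) h)⟩
  have := ((tI (S := S)).cj_sharp S.t).mem (g := y⁻¹ * x) (by rw [CfsgH6.cj_top]; trivial) hd
    (by rwa [show y⁻¹ * x * d * (y⁻¹ * x)⁻¹ = y⁻¹ * (x * d * x⁻¹) * y by group, h,
      show y⁻¹ * (y * a * y⁻¹) * y = a by group])
  have h14 : y⁻¹ * x ∈ S.A := mem_inf.2 ⟨mul_mem (inv_mem (S.Z_le hy)) hx.1, this⟩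
  simpa using mul_mem_sup hy h14

end SB

end CfsgSZ
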