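import Cfsg.Agent.SZ.SUZ1_e

set_option autoImplicit false

/-! Peterfalvi, Part II, Chapter IV §2.  The subgroup `L0 = ⟨Q₀, K, t⟩` permutes the points outside
`Q₀ ∪ {∞}` regularly. -/

namespace CfsgSZ

open Subgroup CfsgH5 CfsgH6 CfsgFT
open scoped commutatorElement

universe u

variable {G : Type u} [Group G] [Finite G]

namespace Suz0

variable {S : Suz0 G}

/-- `y` moves the point `H t x` to the point `H t x'`. -/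
def Mv (S : Suz0 G) (x y x' : G) : Prop := S.t * x * y * (S.t * x')⁻¹ ∈ S.H

theorem Mv.mul {x y x' y' x'' : G} (h : S.Mv x y x') (h' : S.Mv x' y' x'') : S.Mv x (y * y') x'' := by
  have := mul_mem h h'
  rwa [show S.t * x * y * (S.t * x')⁻¹ * (S.t * x' * y' * (S.t * x'')⁻¹) =
    S.t * x * (y * y') * (S.t * x'')⁻¹ by group] at this

theorem Mv.inv {x y x' : G} (h : S.Mv x y x') : S.Mv x' y⁻¹ x := by
  have := inv_mem h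
  rwa [show (S.t * x * y * (S.t * x')⁻¹)⁻¹ = S.t * x' * y⁻¹ * (S.t * x)⁻¹ by group] at this

theorem mv_Q (x y : G) : S.Mv x y (x * y) := by simp [Mv, mul_assoc]

theorem mv_t {x : G} (hx : x ∈ S.Q) (h1 : x ≠ 1) : S.Mv x S.t (S.f x) := by
  rw [Mv, txt hx h1, mul_assoc _ S.t, mul_inv_cancel_right]
  exact mul_mem (S.Q_le_H (g_mem hx h1)) (S.D_le_H (h_mem hx h1))

theorem mv_D (x : G) {d : G} (hd : d ∈ S.D) : S.Mv x d (d⁻¹ * x * d) := by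
  rw [Mv, show S.t * x * d * (S.t * (d⁻¹ * x * d))⁻¹ = S.t * d * S.t⁻¹ by group, S.t_inv]
  exact S.D_le_H (tDt hd)

theorem Mv.eq {x y x' x'' : G} (h : S.Mv x y x') (h' : S.Mv x y x'') (h1 : x' ∈ S.Q)
    (h2 : x'' ∈ S.Q) : x' = x'' := by
  have := h.inv.mul h'
  rw [inv_mul_cancel, Mv, mul_one, mul_inv_rev, ← mul_assoc, mul_assoc S.t, S.t_inv] at this
  exact mul_inv_eq_one.mp (Q_t (mul_mem h1 (inv_mem h2)) this)

theorem Mv.zpow {x y : G} (h : S.Mv x y x) (n : ℤ) : S.Mv x (y ^ n) x := by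
  rw [Mv, ← conj_zpow]; exact zpow_mem h n

theorem exists_conj_Ks {g y : G} (hg : g ∈ S.X) (hy : g * y * g⁻¹ ∈ S.H) (ht : g * S.t * g⁻¹ ∉ S.H)
    (e : S.t * y * S.t = y⁻¹) : ∃ h ∈ S.H, h * g * y * (h * g)⁻¹ ∈ S.Ks ∧
      h * g * S.t = S.t * (h * g) := by
  obtain ⟨h0, hh, y0, hy0, e1⟩ := canon (mul_mem (mul_mem hg S.t_mem) (inv_mem hg)) ht
  have e2 : y0 * h0 * S.t = y0 * g * S.t * (y0 * g)⁻¹ := by
    rw [show y0 * g * S.t * (y0 * g)⁻¹ = y0 * (g * S.t * g⁻¹) * y0⁻¹ by group, e1]; group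
  obtain ⟨a, ha, e3, -⟩ := Ks_sqrt (Ks_of_sq (mul_mem (S.Q_le_H hy0) hh) (by
    rw [e2, conj_mul, S.tt]; simp))
  have hH := mul_mem (inv_mem (S.D_le_H (Ks_D ha))) (S.Q_le_H hy0)
  have e4 : a⁻¹ * y0 * g * S.t = S.t * (a⁻¹ * y0 * g) := by
    calc _ = a⁻¹ * (y0 * g * S.t * (y0 * g)⁻¹) * (y0 * g) := by group
      _ = a * S.t * (y0 * g) := by rw [← e2, ← e3]; group
      _ = _ := by rw [Ks_kt ha]; group
  have m : a⁻¹ * y0 * g * y * (a⁻¹ * y0 * g)⁻¹ ∈ S.H := by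
    simpa [mul_assoc] using mul_mem (mul_mem hH hy) (inv_mem hH)
  have e5 : S.t * (a⁻¹ * y0 * g * y * (a⁻¹ * y0 * g)⁻¹) * S.t =
      (a⁻¹ * y0 * g * y * (a⁻¹ * y0 * g)⁻¹)⁻¹ := by
    calc _ = S.t * (a⁻¹ * y0 * g) * y * (S.t * (a⁻¹ * y0 * g))⁻¹ * (S.t * S.t) := by group
      _ = _ := by rw [← e4, S.tt, conj_inv, ← e, mul_inv_rev _ S.t, S.t_inv]; group
  exact ⟨_, hH, ⟨mem_D.mpr ⟨m, e5 ▸ inv_mem m⟩, e5⟩, e4⟩

theorem Ks_fix {g k : G} (hk : k ∈ S.Ks) (h1 : k ≠ 1) (hg : g ∈ S.X) (e : g * k * g⁻¹ ∈ S.H) :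
    g ∈ S.H ∨ g * S.t ∈ S.H := by
  by_cases c : g ∈ S.H
  · exact Or.inl c
  obtain ⟨h, hh, y, hy, rfl⟩ := canon hg c
  rw [Ks_fpf hk h1 hy (comm_of_conj_mem_D hy (Ks_D hk)
    (fix_of hh hy (S.D_le_H (Ks_D hk)) e)).symm, mul_one, S.mtt]
  exact Or.inr hh

theorem QD_pow {x d : G} (hx : x ∈ S.Q) (hd : d ∈ S.D) (n : ℕ) : ∃ y ∈ S.Q, (x * d) ^ n = y * d ^ n := by
  induction n with
  | zero => exact ⟨1, one_mem _, by simp⟩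
  | succ n ih =>
    obtain ⟨y, hy, e⟩ := ih
    exact ⟨x * (d * y * d⁻¹), mul_mem hx (conjQ (S.D_le_H hd) hy), by rw [pow_succ', e]; group⟩

/-- `⟨Q₀, K, t⟩`. -/
def L0 (S : Suz0 G) : Subgroup G := S.Q0 ⊔ S.K ⊔ zpowers S.t

theorem Q0_L0 {x : G} (h : x ∈ S.Q0) : x ∈ S.L0 := mem_sup_left (mem_sup_left h)
theorem K_L0 {x : G} (h : x ∈ S.K) : x ∈ S.L0 := mem_sup_left (mem_sup_right h)
theorem t_L0 : S.t ∈ S.L0 := mem_sup_right (mem_zpowers _)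
theorem L0_le_X : S.L0 ≤ S.X := sup_le (sup_le (Q0_le_Q.trans S.Q_le_X) (K_le_D.trans S.D_le_X))
  (zpowers_le.mpr S.t_mem)

theorem W_L0 {w y : G} (hw : w ∈ S.W) (hy : y ∈ S.L0) : y * w = w * y := by
  have : S.L0 ≤ C1 w := sup_le (sup_le (fun x hx => mem_C1.mpr (mem_C.mp hw.2 x hx))
    (fun x hx => mem_C1.mpr (mem_C.mp (W_le_C_K hw) x hx)))
    (zpowers_le.mpr (mem_C1.mpr (V_tv (W_le_V hw))))
  exact mem_C1.mp (this hy)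

end Suz0

namespace Suz

open Suz0

variable [FTthm.{u}] {S : Suz G} (h3 : orderOf (S.s * S.t) = 3)
include h3

theorem l0_aux : (∀ d ∈ S.K, S.t * d * S.t ∈ S.K) ∧
    ∀ x ∈ S.Q0, x ≠ 1 → S.g x ∈ S.Q0 ∧ S.h x ∈ S.K ∧ S.f x ∈ S.Q0 :=
  ⟨fun _ hd => Ks_t (mem_K.mp hd) ▸ inv_mem hd, fun _ hx h1 =>
    ⟨(S.fg_Q0 h3 hx h1).2 ▸ (S.fg_Q0 h3 hx h1).1, Ks_le_K (S.h_Q0 hx h1), (S.fg_Q0 h3 hx h1).1⟩⟩

theorem l0_cases {y : G} (hy : y ∈ S.L0) : (∃ u ∈ S.Q0, ∃ k ∈ S.K, y = u * k) ∨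
    ∃ u ∈ S.Q0, ∃ k ∈ S.K, ∃ v ∈ S.Q0, y = u * k * S.t * v := by
  have s := sdp_sup (nrm_KQ0 (S := S.toSuz0)) (eq_bot_iff.2 fun x hx =>
    mem_bot.2 (QD_one (Q0_le_Q hx.1) (K_le_D hx.2)))
  rcases mem_gen Q0_le_Q K_le_D nrm_KQ0 (l0_aux h3).1 (l0_aux h3).2 hy with c | ⟨h, hh, v, hv, e⟩
  · exact Or.inl (s.exists_mul c)
  · obtain ⟨u, hu, k, hk, rfl⟩ := s.exists_mul hh
    exact Or.inr ⟨u, hu, k, hk, v, hv, e⟩

theorem exists_l0 : ∃ T : Suz G, T.X = S.L0 ∧ T.H ≤ S.H ∧ T.Q = S.Q0 ∧ T.D = S.K := by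
  obtain ⟨a, b, c⟩ := gen_spec Q0_le_Q K_le_D nrm_KQ0 (l0_aux h3).1 (l0_aux h3).2
  exact ⟨S.restr _ a (Q0_L0 S.s_Q0), inf_eq_right.mpr L0_le_X, inf_le_left, b, c⟩

theorem pt_l0 {g x : G} (hg : g ∈ S.L0) (hx : x ∈ S.Q) (e : g * (S.t * x)⁻¹ ∈ S.H) : x ∈ S.Q0 := by
  rcases l0_cases h3 hg with ⟨u, hu, k, hk, rfl⟩ | ⟨u, hu, k, hk, v, hv, rfl⟩ <;>
    have m := mul_mem (S.Q_le_H (Q0_le_Q hu)) (S.D_le_H (K_le_D hk))
  · rw [mul_mem_cancel_left m, inv_mem_iff, mul_mem_cancel_right (S.Q_le_H hx)] at e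
    exact absurd e S.t_not
  · rw [mul_assoc, mul_assoc, mul_mem_cancel_left m, mul_inv_rev, S.t_inv, ← mul_assoc v,
      ← mul_assoc] at e
    exact mul_inv_eq_one.mp (Q_t (mul_mem (Q0_le_Q hv) (inv_mem hx)) e) ▸ hv

theorem not_mv_tz {ω z : G} (hω : ω ∈ S.Q) (h0 : ω ∉ S.Q0) (hz : z ∈ S.Q0) :
    ¬ S.Mv ω (S.t * z) ω := by
  intro hm
  have gX := mul_mem S.t_mem (S.Q_le_X hω)
  have nt : S.t * ω * S.t * (S.t * ω)⁻¹ ∉ S.H := fun c => by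
    have e : S.t = S.s * S.t * S.s * (S.s * S.t)⁻¹ := by
      have := S.struct
      rw [S.order3_iff.mp h3, S.s_inv] at this
      rw [S.st_inv, ← this, ← mul_assoc, S.mtt, mul_assoc, S.ss, mul_one]
    have := ti S.s_mem S.s_ne (mul_mem gX S.st_mem) (by
      rw [show S.t * ω * (S.s * S.t) * S.s * (S.t * ω * (S.s * S.t))⁻¹ =
        S.t * ω * (S.s * S.t * S.s * (S.s * S.t)⁻¹) * (S.t * ω)⁻¹ by group, ← e]; exact c)
    rw [← mul_assoc, mul_assoc S.t] at this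
    exact h0 (eq_inv_of_mul_eq_one_left (Q_t (mul_mem hω S.s_mem) this) ▸ inv_mem S.s_Q0)
  obtain ⟨h, hh, e1, e2⟩ := exists_conj_Ks gX hm nt (by
    rw [S.ttm, mul_inv_rev, S.t_inv, inv_eq_of_sq (Q0_sq hz)])
  obtain ⟨r, hr, hd⟩ := Nat.exists_prime_and_dvd (n := orderOf (S.t * z)) (fun e => S.t_not (by
    rw [eq_inv_of_mul_eq_one_left (orderOf_eq_one_iff.mp e)]
    exact inv_mem (S.Q_le_H (Q0_le_Q hz))))
  haveI := Fact.mk hr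
  have o := orderOf_pow_orderOf_div (orderOf_pos _).ne' hd
  have e3 := Ks_pow e1 (orderOf (S.t * z) / r)
  rw [conj_pow] at e3
  have yL := pow_mem (mul_mem t_L0 (Q0_L0 hz)) (orderOf (S.t * z) / r)
  generalize (S.t * z) ^ (orderOf (S.t * z) / r) = y at o e3 yL
  have o' := (orderOf_conj' (h * (S.t * ω)) y).trans o
  have r1 : r ∣ S.q - 1 := card_K (S := S.toSuz0) ▸ o' ▸ orderOf_dvd_natCard _ (Ks_le_K e3)
  have r2 : Odd r := o' ▸ D_odd (Ks_D e3)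
  obtain ⟨T, t1, t2, t3, -⟩ := exists_l0 h3
  obtain ⟨R, hR⟩ := exists_sylIn r T.H
  obtain ⟨g, hg, le⟩ := (hR.trans_not_dvd hr T.H_le (fun c => by
    rw [T.relIndex_H, t3] at c
    have := (Nat.dvd_sub c r1)
    rw [show Nat.card S.Q0 + 1 - (S.q - 1) = 2 by have := two_le_q (S := S.toSuz0); unfold Suz0.q at *; omega,
      Nat.prime_dvd_prime_iff_eq hr Nat.prime_two] at this
    exact absurd (this ▸ r2) (by decide))).exists_le_cj (X := zpowers y) (zpowers_le.mpr (t1 ▸ yL))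
      (IsPGroup.of_card (n := 1) (by rw [Nat.card_zpowers, o, pow_one]))
  rw [t1] at hg
  have m := t2 (hR.le (mem_cj.mp (le (mem_zpowers y))))
  rcases Ks_fix e3 (g := g⁻¹ * (h * (S.t * ω))⁻¹) (fun c => hr.one_lt.ne' (by rw [← o', c, orderOf_one]))
    (mul_mem (inv_mem (L0_le_X hg)) (inv_mem (mul_mem (S.H_le hh) gX))) (by simpa [mul_assoc] using m)
    with c | c
  · exact h0 (pt_l0 h3 (inv_mem hg) hω (by simpa [mul_assoc] using mul_mem c hh))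
  · refine h0 (pt_l0 h3 (mul_mem (inv_mem hg) t_L0) hω ?_)
    have := mul_mem c hh
    rwa [show g⁻¹ * (h * (S.t * ω))⁻¹ * S.t * h = g⁻¹ * (h * (S.t * ω))⁻¹ * (S.t * (h * (S.t * ω))) *
      (S.t * ω)⁻¹ by group, ← e2, show g⁻¹ * (h * (S.t * ω))⁻¹ * (h * (S.t * ω) * S.t) = g⁻¹ * S.t by
        group] at this

omit h3 in
theorem mv_norm {ω c u k v : G} (hω : ω ∈ S.Q) (h0 : ω ∉ S.Q0) (hc : c ∈ S.W) (hu : u ∈ S.Q0)
    (hk : k ∈ S.K) (hv : v ∈ S.Q0) (hm : S.Mv ω (u * k * S.t * v * c) ω) :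
    ∃ ω' ∈ S.Q, ω' ∉ S.Q0 ∧ ∃ z ∈ S.Q0, S.Mv ω' (S.t * z * c) ω' := by
  obtain ⟨b, hb, rfl, -⟩ := Ks_sqrt (mem_K.mp hk)
  have bH := S.D_le_H (Ks_D hb)
  have m := (mv_Q ω u).mul (mv_D (S := S.toSuz0) _ (Ks_D hb))
  refine ⟨b⁻¹ * (ω * u) * b, conjQ' bH (mul_mem hω (Q0_le_Q hu)), fun c => h0 ?_,
    b⁻¹ * (v * u) * b, nrm_HQ0.conj' bH (mul_mem hv hu), ?_⟩
  · simpa [mul_assoc, mul_mem_cancel_right hu] using nrm_HQ0 b bH _ c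
  have := (m.inv.mul hm).mul m
  rwa [mul_assoc _ (_ * c), mul_assoc _ c, ← W_L0 hc (mul_mem (Q0_L0 hu) (K_L0 (Ks_le_K hb))),
    show (u * b)⁻¹ * (u * (b * b) * S.t * v * (u * b * c)) = b * S.t * v * u * b * c by group,
    Ks_kt hb, show S.t * b⁻¹ * v * u * b = S.t * (b⁻¹ * (v * u) * b) by group] at this

theorem reg {ω y : G} (hω : ω ∈ S.Q) (h0 : ω ∉ S.Q0) (hy : y ∈ S.L0) (hm : S.Mv ω y ω) : y = 1 := by
  rcases l0_cases h3 hy with ⟨u, hu, k, hk, rfl⟩ | ⟨u, hu, k, hk, v, hv, rfl⟩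
  · have e := hm.eq ((mv_Q ω u).mul (mv_D _ (K_le_D hk))) hω
      (conjQ' (S.D_le_H (K_le_D hk)) (mul_mem hω (Q0_le_Q hu)))
    have e' : ω⁻¹ * (k * ω * k⁻¹) = u := by nth_rewrite 2 [e]; group
    by_cases c : k = 1
    · simpa [c] using e'.symm
    · exact absurd (mem_of_comm_K Q0_le_Q nrm_KQ0 hk c hω (e' ▸ hu)) h0
  · obtain ⟨ω', a, b, z, hz, c⟩ := mv_norm hω h0 (one_mem _) hu hk hv (by rwa [mul_one])
    exact absurd (by rwa [mul_one] at c) (not_mv_tz h3 a b hz)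

theorem mv_surj (hc : Nat.card S.Q = S.q ^ 3) {ω x : G} (hω : ω ∈ S.Q) (h0 : ω ∉ S.Q0) (hx : x ∈ S.Q)
    (h1 : x ∉ S.Q0) : ∃ y ∈ S.L0, S.Mv ω y x := by
  have : ∀ y : S.L0, ∃ x : ((S.Q : Set G) \ S.Q0 : Set G), S.Mv ω y x := fun y => by
    obtain ⟨h, hh, x, hx, e⟩ := canon (mul_mem (mul_mem S.t_mem (S.Q_le_X hω)) (L0_le_X y.2))
      (fun c => h0 (pt_l0 h3 (inv_mem y.2) hω (by simpa [mul_assoc] using inv_mem c)))
    have m : S.Mv ω y x := by rw [Mv, e]; simpa [mul_assoc] using hh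
    exact ⟨⟨x, hx, fun c => h0 (pt_l0 h3 (mul_mem (mul_mem t_L0 (Q0_L0 c)) (inv_mem y.2)) hω
      m.inv)⟩, m⟩
  choose F hF using this
  obtain ⟨T, t1, -, t3, t4⟩ := exists_l0 h3
  obtain ⟨y, e⟩ := (Function.Injective.bijective_of_nat_card_le (f := F) (fun a b e => Subtype.ext
    (mul_inv_eq_one.mp (reg h3 hω h0 (mul_mem a.2 (inv_mem b.2)) ((hF a).mul (e ▸ hF b).inv)))) (by
      rw [← t1, T.card_X', t3, t4, card_K, Nat.card_coe_set_eq, Set.ncard_diff (fun _ h => Q0_le_Q h),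
        ← Nat.card_coe_set_eq, ← Nat.card_coe_set_eq]
      change Nat.card S.Q - S.q ≤ S.q * (S.q - 1) * (S.q + 1)
      obtain ⟨n, hn⟩ := Nat.exists_eq_add_of_le' (two_le_q (S := S.toSuz0))
      rw [hc, hn]
      exact Nat.sub_le_of_le_add (le_of_eq (by simp; ring)))).2 ⟨x, hx, h1⟩
  exact ⟨y, y.2, by simpa [e] using hF y⟩

omit h3 in
theorem sq_mem (hq : 2 < S.q) (hN : S.N = ⊥) (h2 : IsPGroup 2 S.Q) (hW : S.W ≠ ⊥) :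
    ∀ x ∈ S.Q, x * x ∈ S.Q0 := (higman hq le_rfl nrm_KQ h2).resolve_left
  (fun c => hW (eq_bot_iff.mpr (hN ▸ W_le_N_of_ab h2 c)))

omit h3 in
theorem mul_sq (hsq : ∀ x ∈ S.Q, x * x ∈ S.Q0) {x : G} (hx : x ∈ S.Q) : x * (x * x) = x⁻¹ :=
  eq_inv_of_mul_eq_one_left (by rw [mul_assoc, mul_assoc, ← mul_assoc, Q0_sq (hsq x hx)])

theorem exists_om (hq : 2 < S.q) (hN : S.N = ⊥) (h2 : IsPGroup 2 S.Q) (hc : Nat.card S.Q = S.q ^ 3)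
    (hW : S.W ≠ ⊥) (hD : ∀ d ∈ S.D, d ≠ 1 → ∀ x ∈ S.Q, ⁅d, x⁆ ∈ S.Q0 → x ∈ S.Q0) :
    ∃ ω ζ, S.Om ω ζ := by
  have hsq := sq_mem hq hN h2 hW
  have nle : ¬ S.Q ≤ S.Q0 := fun c => by
    rw [le_antisymm c Q0_le_Q] at hc
    exact absurd hc (Nat.ne_of_lt (lt_self_pow₀ (two_le_q (S := S.toSuz0)) (by norm_num)))
  obtain ⟨M, hM, p, hp, hmin, hel⟩ := exists_minNrm_elAb hW nrm_DW
    (solvable_of_le solvable_D W_le_D)
  haveI := Fact.mk hp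
  obtain ⟨⟨ζ, hζ⟩, ζ1⟩ := ne_bot_iff_exists_ne_one.mp hmin.ne_bot
  replace ζ1 : ζ ≠ 1 := fun e => ζ1 (Subtype.ext e)
  have oζ := hel.orderOf_eq hp hζ ζ1
  have ζW := hM hζ
  have ζD := W_le_D ζW
  have uniq : ∀ d ∈ S.D, d ^ p = 1 → d ∈ zpowers ζ := by
    intro d hd e
    have le : zpowers d ⊔ M ≤ S.D := sup_le (zpowers_le.mpr hd) (hM.trans W_le_D)
    refine mem_of_isCyclic_of_pow (X := zpowers d ⊔ M) ?_ (zpowers_le.mpr (mem_sup_right hζ))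
      (mem_sup_left (mem_zpowers d)) (by rw [Nat.card_zpowers, oζ, e])
    by_contra c
    obtain ⟨E, hE⟩ := exists_el_two_of_odd' hp (CfsgH6.Nrm.isPGroup_sup
      (hmin.nrm.mono (zpowers_le.mpr hd)) (isPGroup_zpowers (k := 1) (by rwa [pow_one])) hel.isPGroup) (S.odd.of_dvd_nat (card_dvd_of_le le)) c
    exact nle (le_of_cent1_le hE.ab (hE.not_isCyclic hp) (S.nrm_DQ.mono (hE.le.trans le))
      (coprime_of_two h2 (hE.le.trans le)) (fun a ha a1 x hx => hD a (le (hE.le ha)) a1 x hx.1 (by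
        rw [commutatorElement_eq_one_iff_mul_comm.mpr (mem_C1.mp hx.2).symm]; exact one_mem _)))
  obtain ⟨ω, hω, h0, z, hz, hm⟩ : ∃ ω ∈ S.Q, ω ∉ S.Q0 ∧ ∃ z ∈ S.Q0, S.Mv ω (S.t * z * ζ) ω := by
    obtain ⟨ω, hω, h0⟩ := SetLike.not_le_iff_exists.mp nle
    obtain ⟨y, hy, e⟩ := mv_surj h3 hc hω h0 (conjQ (S.D_le_H ζD) hω)
      (fun c => h0 (by simpa [mul_assoc] using nrm_HQ0.conj' (S.D_le_H ζD) c))
    have e' : S.Mv ω (y * ζ) ω := by simpa [mul_assoc] using e.mul (mv_D _ ζD)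
    rcases l0_cases h3 hy with ⟨u, hu, k, hk, rfl⟩ | ⟨u, hu, k, hk, v, hv, rfl⟩
    · have d := mul_mem (K_le_D hk) ζD
      have := e'.eq (mul_assoc u k ζ ▸ (mv_Q ω u).mul (mv_D _ d)) hω
        (conjQ' (S.D_le_H d) (mul_mem hω (Q0_le_Q hu)))
      refine absurd (hD _ d (fun c => ζ1 (mem_bot.mp (K_inf_W (S := S.toSuz0) ▸ mem_inf.mpr
        ⟨eq_inv_of_mul_eq_one_right c ▸ inv_mem hk, ζW⟩))) ω hω ?_) h0
      rw [show ⁅k * ζ, ω⁆ = ω * u * ω⁻¹ by rw [commutatorElement_def]; nth_rewrite 1 [this]; group]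
      exact nrm_HQ0 _ (S.Q_le_H hω) _ hu
    · exact mv_norm hω h0 ζW hu hk hv e'
  have ω1 : ω ≠ 1 := fun e => h0 (e ▸ one_mem _)
  have AL := mul_mem t_L0 (Q0_L0 hz)
  have cm : Commute (S.t * z) ζ := W_L0 ζW AL
  have mz : ∀ n : ℤ, S.Mv ω ((S.t * z) ^ n * ζ ^ n) ω := fun n => cm.mul_zpow n ▸ hm.zpow n
  have ζp : ζ ^ p = 1 := oζ ▸ pow_orderOf_eq_one ζ
  have Ap : (S.t * z) ^ p = 1 := reg h3 hω h0 (pow_mem AL p) (by simpa [ζp] using mz p)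
  have fm := f_mem hω ω1
  have fω : S.f ω = ζ * ω * ζ⁻¹ * z⁻¹ := (mv_t hω ω1).eq (by
      simpa [mul_assoc] using (hm.mul (mv_D _ (inv_mem ζD))).mul (mv_Q _ z⁻¹)) fm
    (mul_mem (conjQ (S.D_le_H ζD) hω) (inv_mem (Q0_le_Q hz)))
  have γ0 := hsq ω hω
  have γζ : ω * ω * ζ = ζ * (ω * ω) := mem_C.mp ζW.2 _ γ0
  have fsq : S.f ω * S.f ω = ω * ω := by
    rw [fω, sq_mul_Q0 (conjQ (S.D_le_H ζD) hω) (inv_mem hz), conj_mul, ← γζ, mul_inv_cancel_right]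
  obtain ⟨j, hj⟩ : S.h ω ∈ zpowers ζ := by
    have d := mul_mem (h_mem hω ω1) ζD
    obtain ⟨y, hy, e⟩ := QD_pow (g_mem hω ω1) d p
    rw [show S.g ω * (S.h ω * ζ) = S.t * ω * (S.t * z * ζ) * (S.t * ω)⁻¹ by
      calc _ = S.g ω * S.h ω * (S.t * ζ) * S.t⁻¹ := by rw [V_tv (W_le_V ζW)]; group
        _ = S.g ω * S.h ω * S.t * S.f ω * z * ζ * (S.t * ω)⁻¹ := by rw [fω]; group
        _ = _ := by rw [← txt hω ω1]; group, conj_pow, cm.mul_pow, Ap, ζp] at e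
    exact (mul_mem_cancel_right (mem_zpowers ζ)).mp (uniq _ d (QD_uniq (one_mem _) hy (one_mem _)
      (pow_mem d p) (by simpa using e)).2.symm)
  have ωi := inv_mem hω
  have ωi1 := inv_ne_one.mpr ω1
  have fi := f_mem ωi ωi1
  have m1 : S.Mv ω (ω * ω * S.t) (S.f ω⁻¹) := (mul_sq hsq hω ▸ mv_Q ω _).mul (mv_t ωi ωi1)
  have γ2 := hsq _ fi
  have R : ω * ω * S.t * (S.f ω⁻¹ * S.f ω⁻¹) * (ω * ω * S.t)⁻¹ = (S.t * z) ^ j * S.t := by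
    have a1 := (m1.mul (mv_Q _ (S.f ω⁻¹ * S.f ω⁻¹))).mul (mv_D _ (h_mem hω ω1))
    rw [mul_sq hsq fi, f_inv hω ω1, inv_inv, ← f_inv_f hω ω1, ← f_inv hω ω1] at a1
    have a0 := (mv_t hω ω1).mul (mv_Q _ (S.f ω * S.f ω))
    rw [mul_sq hsq fm, fsq] at a0
    have a2 := a0.mul (mv_t (inv_mem fm) (inv_ne_one.mpr (f_ne hω ω1)))
    have tγ := mul_mem (mul_mem t_L0 (Q0_L0 γ0)) t_L0
    have a3 := (a1.mul a2.inv).mul (mz j).inv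
    rw [← hj, mul_assoc _ (ζ ^ j), ← W_L0 (zpow_mem ζW j) (inv_mem tγ), mul_inv_rev _ (ζ ^ j),
      ← mul_assoc, ← mul_assoc, mul_inv_cancel_right] at a3
    have := reg h3 hω h0 (mul_mem (mul_mem (mul_mem (mul_mem (Q0_L0 γ0) t_L0) (Q0_L0 γ2))
      (inv_mem tγ)) (inv_mem (zpow_mem AL j))) a3
    rw [← mul_inv_eq_one.mp this]; group
  obtain ⟨l, hl⟩ : ∃ l : ℤ, (S.t * z) ^ j * S.t = (S.t * z) ^ l * z * ((S.t * z) ^ l)⁻¹ := by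
    obtain ⟨m, e⟩ : Odd p := oζ ▸ D_odd ζD
    have zi := inv_eq_of_sq (Q0_sq hz)
    have i : z * (S.t * z)⁻¹ * z⁻¹ = S.t * z := by
      rw [mul_inv_rev, S.t_inv, zi, ← mul_assoc, Q0_sq hz, one_mul]
    refine ⟨(j + 1) * (m + 1), ?_⟩
    rw [mul_assoc, ← inv_zpow, ← mul_inv_cancel_right (z * _) z⁻¹, ← conj_zpow, i, inv_inv,
      ← mul_assoc, ← zpow_add, show (j + 1) * (m + 1) + (j + 1) * (m + 1) = p * (j + 1) + j + 1 by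
        rw [e]; push_cast; ring, zpow_add_one, zpow_add, zpow_mul, zpow_natCast, Ap, one_zpow, one_mul,
      mul_assoc, mul_assoc, Q0_sq hz, mul_one]
  have eL := mul_mem (inv_mem (zpow_mem AL l)) (mul_mem (Q0_L0 γ0) t_L0)
  have e1 : S.f ω⁻¹ * S.f ω⁻¹ = (((S.t * z) ^ l)⁻¹ * (ω * ω * S.t))⁻¹ * z *
      (((S.t * z) ^ l)⁻¹ * (ω * ω * S.t)) := by
    calc _ = (ω * ω * S.t)⁻¹ * (ω * ω * S.t * (S.f ω⁻¹ * S.f ω⁻¹) * (ω * ω * S.t)⁻¹) *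
        (ω * ω * S.t) := by group
      _ = _ := by rw [R, hl]; group
  have z1 : z ≠ 1 := fun c => h0 (by
    have := mem_Q0_of fi (by rw [e1, c, mul_one, inv_mul_cancel])
    rw [← inv_mem_iff, ← f_f ωi ωi1]
    exact (S.fg_Q0 h3 this (f_ne ωi ωi1)).1)
  have eH := ti (Q0_le_Q hz) z1 (L0_le_X (inv_mem eL)) (by
    rw [inv_inv, ← e1]; exact S.Q_le_H (Q0_le_Q γ2))
  have m2 := ((mz l).mul (mv_D _ (inv_mem (zpow_mem ζD l)))).inv.mul m1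
  rw [mul_inv_cancel_right, inv_inv] at m2
  generalize ((S.t * z) ^ l)⁻¹ * (ω * ω * S.t) = e at eL e1 eH m2
  rcases l0_cases h3 eL with ⟨u, hu, k, hk, rfl⟩ | ⟨u, hu, k, hk, v, hv, rfl⟩
  swap
  · exact absurd (inv_mem_iff.mp eH) (not_mem_H (mul_mem (S.Q_le_H (Q0_le_Q hu))
      (S.D_le_H (K_le_D hk))) (S.Q_le_H (Q0_le_Q hv)))
  have c0 := conjQ (S.D_le_H (zpow_mem ζD l)) hω
  rw [m2.eq ((mv_Q _ u).mul (mv_D _ (K_le_D hk))) fi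
    (conjQ' (S.D_le_H (K_le_D hk)) (mul_mem c0 (Q0_le_Q hu))), show ∀ a b : G, b⁻¹ * a * b * (b⁻¹ * a * b) = b⁻¹ * (a * a) * b from
      fun a b => by group, sq_mul_Q0 c0 hu, conj_mul,
    ← mem_C.mp (zpow_mem ζW l).2 _ γ0, mul_inv_cancel_right, mul_inv_rev, mul_assoc _ u⁻¹,
    ← Q0_comm hz (inv_mem (Q0_le_Q hu))] at e1
  refine ⟨ω, ζ, hω, h0, ζW, by simpa [hN], ?_⟩
  rw [fω, ← show ω * ω = z from mul_right_cancel (b := k) (by simpa [mul_assoc] using e1), mul_assoc, ← mul_inv_rev, γζ]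
  group

end Suz

end CfsgSZ
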