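import Cfsg.Agent.SZ.SUZ5_a
import Cfsg.Agent.H2.SzCoord

set_option autoImplicit false

/-! Peterfalvi, Part II, Chapter III §3 and Chapter IV §3: coordinates on `Q` and the map `f`. -/

namespace CfsgSZ

open Subgroup CfsgH5 CfsgH6 CfsgFT
open scoped commutatorElement

universe u

section alg

variable {E : Type*} [Field E] [CharP E 2] {σ : E →+* E} {z : E}

theorem u3_indep (hz : z * σ z = 1) (hz' : σ z ≠ z) {p r : E} (hp : σ p = p) (hr : σ r = r)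
    (h : p + r * z = 0) : r = 0 ∧ p = 0 := by
  have h' := congrArg σ h
  rw [map_add, map_mul, hp, hr, map_zero] at h'
  have : r = 0 := (mul_eq_zero.mp (by linear_combination h' - h : r * (σ z - z) = 0)).resolve_right
    (sub_ne_zero.mpr hz')
  exact ⟨this, by simpa [this] using h⟩

theorem u3_alg1 (hσ : ∀ x, σ (σ x) = x) (hz : z * σ z = 1) (hz' : σ z ≠ z) (μ : E ≃+* E)
    (hc : ∀ x, σ (μ x) = μ (σ x)) (hμ : μ z = z) {b c X : E} (hb : σ b = b) (hc' : σ c = c)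
    (e1 : b * X = z * μ.symm X + 1) (e2 : c * X = σ z * μ X + 1) :
    c = μ (μ b) + (z + σ z) ∧ μ (b * μ b + (z + σ z) * b) = b * μ b + (z + σ z) * b := by
  have two : (2 : E) = 0 := CharTwo.two_eq_zero
  have hμ' : μ (σ z) = σ z := by rw [← hc, hμ]
  obtain ⟨d, rfl⟩ := μ.surjective c
  obtain ⟨Y, rfl⟩ := μ.surjective X
  have hd : σ d = d := μ.injective (by rw [← hc, hc'])
  have e3 := congrArg μ e1
  have e4 : d * Y = σ z * μ Y + 1 := μ.injective (by simpa [hμ'] using e2)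
  simp only [map_mul, map_add, map_one, hμ, μ.symm_apply_apply] at e1 e3
  have hm : σ (μ b) = μ b := by rw [hc, hb]
  have a1 : μ Y * (1 + μ b * μ d) = σ z + μ b := by grind
  have a2 : μ Y * (1 + b * d) = z + d := by grind
  obtain ⟨a3, a4⟩ := u3_indep hz hz' (p := (1 + b * d) * (z + σ z + μ b) + (1 + μ b * μ d) * d)
    (r := b * d + μ b * μ d) (by simp [hσ, hb, hd, hm, hc', add_comm]) (by simp [hb, hd, hm, hc'])
    (by grind)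
  have a5 : 1 + b * d ≠ 0 := fun e => one_ne_zero (u3_indep hz hz' (p := d) (r := 1) hd (map_one σ)
    (by grind)).1
  have a6 : d = μ b + (z + σ z) := by
    have : (1 + b * d) * (z + σ z + μ b + d) = 0 := by grind
    have := (mul_eq_zero.mp this).resolve_left a5
    grind
  subst a6
  simp only [map_add, map_mul, hμ, hμ'] at a3 ⊢
  exact ⟨trivial, by grind⟩

theorem u3_sq (hσ : ∀ x, σ (σ x) = x) [Finite E] {b : E} (hb : σ b = b) : ∃ c, σ c = c ∧ c ^ 2 = b := by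
  obtain ⟨c, rfl⟩ := (frobeniusEquiv E 2).surjective b
  exact ⟨c, (frobeniusEquiv E 2).injective (by simpa [frobenius_def] using hb), rfl⟩

theorem u3_basis (hσ : ∀ x, σ (σ x) = x) (hz' : σ z ≠ z) (e : E) :
    ∃ a b, σ a = a ∧ σ b = b ∧ e = a + b * z := by
  have two : (2 : E) = 0 := CharTwo.two_eq_zero
  have : z + σ z ≠ 0 := fun e => hz' (by grind)
  refine ⟨e + (e + σ e) / (z + σ z) * z, (e + σ e) / (z + σ z), ?_, by simp [hσ, add_comm], by grind⟩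
  simp only [map_add, map_mul, map_div₀, hσ, add_comm (σ z)]
  field_simp
  grind

theorem u3_alg2 [Finite E] (hσ : ∀ x, σ (σ x) = x) (hz : z * σ z = 1) (hz' : σ z ≠ z) {N : E → E}
    (h1 : ∀ a a' b, N (a + a' + b) + N (a + a') + N b =
      N (a + b) + N a + N b + (N (a' + b) + N a' + N b))
    (h2 : ∀ l a, σ l = l → N (l * a) = l ^ 2 * N a) (h3 : ∀ a, N (z * a) = N a)
    (h4 : N 1 = z + σ z) (a : E) : N a = (z + σ z) * (a * σ a) := by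
  have two : (2 : E) = 0 := CharTwo.two_eq_zero
  let B : E → E → E := fun a b => N (a + b) + N a + N b
  have s : ∀ a b, B a b = B b a := fun a b => by simp only [B]; rw [add_comm a]; ring
  have b1 : ∀ a a' b, B (a + a') b = B a b + B a' b := h1
  have b2 : ∀ a b b', B a (b + b') = B a b + B a b' := fun a b b' => by rw [s, b1, s b, s b']
  have b3 : ∀ l a b, σ l = l → B (l * a) (l * b) = l ^ 2 * B a b := fun l a b hl => by
    simp only [B]; rw [← mul_add, h2 _ _ hl, h2 _ _ hl, h2 _ _ hl]; ring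
  have b4 : ∀ l a b, σ l = l → B (l * a) b = B a (l * b) := fun l a b hl => by
    have := b3 (l + 1) a b (by simp [hl])
    rw [add_mul, add_mul, b1, b2, b2, b3 l a b hl, one_mul, one_mul] at this
    grind
  have b5 : ∀ l a b, σ l = l → B (l * a) b = l * B a b := fun l a b hl => by
    obtain ⟨c, hc, rfl⟩ := u3_sq hσ hl
    rw [sq, mul_assoc, b4 c _ _ hc, b3 c _ _ hc, sq]
  have e : ∀ a b, σ a = a → σ b = b → N (a + b * z) = (z + σ z) * (a ^ 2 + b ^ 2) + a * b * B 1 z := by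
    intro a b ha hb
    have e1 := b5 a 1 (b * z) ha
    have e2 := h2 a 1 ha
    have e3 := h3 1
    rw [s 1, b5 b z 1 hb, s z, mul_one] at e1
    simp only [B, h2 b z hb, mul_one] at e1 e2 e3 ⊢
    grind
  have e' := e 1 (z + σ z) (map_one σ) (by simp [hσ, add_comm])
  rw [show 1 + (z + σ z) * z = z * (z * 1) by grind, h3, h3, h4] at e'
  have : z + σ z ≠ 0 := fun e => hz' (by grind)
  have e2 : B 1 z = (z + σ z) ^ 2 := mul_left_cancel₀ this (by grind)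
  obtain ⟨c, d, hc, hd, rfl⟩ := u3_basis hσ hz' a
  rw [e c d hc hd, e2, map_add, map_mul, hc, hd]
  grind

end alg

variable {G : Type u} [Group G] [Finite G] [FTthm.{u}]

namespace Suz

open Suz0

variable {S : Suz G}

theorem om_h {ω ζ : G} (hω : ω ∈ S.Q) (h1 : ω ≠ 1) (hζ : ζ ∈ S.W) (e : S.f ω = ζ * ω⁻¹ * ζ⁻¹) :
    S.f ω⁻¹ = ζ⁻¹ * ω * ζ ∧ S.h ω ∈ S.V ∧ S.h ω * ζ = ζ * S.h ω ∧
      ζ * S.h ω * ζ * ζ * ω = ω * (ζ * S.h ω * ζ * ζ) := by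
  have ζV := W_le_V hζ
  have ωi := inv_mem hω
  have ωi1 := inv_ne_one.mpr h1
  have e1 : S.f ω⁻¹ = ζ⁻¹ * ω * ζ := by
    have := f_f hω h1
    rw [e, f_conj_V ωi ωi1 ζV] at this
    nth_rewrite 2 [← this]; group
  have e2 := h_f hω h1
  rw [e, h_conj_V ωi ωi1 ζV, h_inv hω h1] at e2
  obtain ⟨k, hk, v, hv, e3⟩ := exists_KV (h_mem hω h1)
  have e4 : S.t * (k * v)⁻¹ * S.t = v⁻¹ * k := by
    rw [mul_inv_rev, ← mul_assoc, V_tv (inv_mem hv), mul_assoc v⁻¹, mul_assoc v⁻¹, Ks_t (Ks_inv hk),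
      inv_inv]
  rw [e3, e4, mul_assoc, mul_assoc, ← W_comm_Ks (inv_mem hζ) hk] at e2
  have e5 : k * k = ζ * v * ζ⁻¹ * v⁻¹ := by
    calc k * k = ζ * v * ζ⁻¹ * (ζ * (v⁻¹ * (ζ⁻¹ * k))) * k := by group
      _ = _ := by rw [e2]; group
  have k1 : k = 1 := D_sq (Ks_D hk) (Ks_V_one (Ks_mul hk hk)
    (e5 ▸ mul_mem (mul_mem (mul_mem ζV hv) (inv_mem ζV)) (inv_mem hv)))
  rw [k1, one_mul] at e3 e5
  have e6 : S.h ω * ζ = ζ * S.h ω := by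
    rw [e3, ← mul_inv_eq_iff_eq_mul.mp (mul_inv_eq_one.mp e5.symm)]
  refine ⟨e1, e3 ▸ hv, e6, ?_⟩
  have e7 := f_inv_f hω h1
  rw [← inv_inv (S.g ω), ← f_inv hω h1, e1, e, conj_inv, inv_inv, f_conj_V hω h1 ζV, e] at e7
  refine (mul_inv_eq_iff_eq_mul.mp (inv_injective ?_))
  calc _ = ζ * S.h ω * (ζ * (ζ * ω⁻¹ * ζ⁻¹) * ζ⁻¹) * (ζ * S.h ω)⁻¹ := by simp [mul_assoc]
    _ = _ := by rw [e7]; group

variable (h3 : orderOf (S.s * S.t) = 3)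
include h3

theorem f_mul_s {x a : G} (hx : x ∈ S.Q) (h0 : x ∉ S.Q0) (ha : a ∈ S.K) :
    S.f (x * (a⁻¹ * S.s * a)) = a * a * S.f (S.f x * (a * S.s * a⁻¹)) * (a * a)⁻¹ * (a * S.s * a⁻¹) := by
  have hi := Ks_inv (mem_K.mp ha)
  have m : a⁻¹ * S.s * a⁻¹⁻¹ ∈ S.Q0 := nrm_KQ0 _ (inv_mem ha) _ S.s_Q0
  have := f_mul hx (fun e => h0 (e ▸ one_mem _)) (Q0_le_Q m) (mt conj_eq_one_iff.mp S.s_ne)
    (fun e => h0 (eq_inv_of_mul_eq_one_left e ▸ inv_mem m))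
  rw [S.h_conj_s hi, S.f_conj_s h3 hi, S.g_conj_s h3 hi, Ks_t (Ks_mul (Ks_inv hi) (Ks_inv hi))] at this
  simpa using this

theorem star {ω ζ a : G} (hω : ω ∈ S.Q) (h0 : ω ∉ S.Q0) (hζ : ζ ∈ S.W) (e : S.f ω = ζ * ω⁻¹ * ζ⁻¹)
    (ha : a ∈ S.K) : a * a * S.f (ω⁻¹ * (a * S.s * a⁻¹)) * (a * a)⁻¹ * (a * S.s * a⁻¹) =
      (ζ * S.h ω * ζ)⁻¹ * S.f (ω⁻¹ * (a * S.s * a⁻¹)) * (ζ * S.h ω * ζ) * ω⁻¹ := by
  have h1 : ω ≠ 1 := fun e => h0 (e ▸ one_mem _)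
  obtain ⟨e1, e2, -, -⟩ := om_h hω h1 hζ e
  have hi := Ks_inv (mem_K.mp ha)
  have m : a⁻¹ * S.s * a⁻¹⁻¹ ∈ S.Q0 := nrm_KQ0 _ (inv_mem ha) _ S.s_Q0
  have m' : a * S.s * a⁻¹ ∈ S.Q0 := nrm_KQ0 _ ha _ S.s_Q0
  have c := mem_C.mp hζ.2 _ m'
  have n := mul_mem (inv_mem hω) (Q0_le_Q m')
  have n1 : ω⁻¹ * (a * S.s * a⁻¹) ≠ 1 := fun e => h0 (inv_mul_eq_one.mp e ▸ m')
  have a1 := f_mul_s h3 hω h0 ha
  have a2 := f_mul (Q0_le_Q m) (mt conj_eq_one_iff.mp S.s_ne) hω h1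
    (fun e => h0 (eq_inv_of_mul_eq_one_right e ▸ inv_mem m))
  rw [Q0_comm m hω, S.f_conj_s h3 hi, V_t e2, inv_inv, a1, ← inv_inv (S.g ω), ← f_inv hω h1, e1, e,
    show ζ * ω⁻¹ * ζ⁻¹ * (a * S.s * a⁻¹) = ζ * (ω⁻¹ * (a * S.s * a⁻¹)) * ζ⁻¹ by
      rw [mul_assoc ζ (_ * _), mul_assoc ω⁻¹ (_ * _), (Commute.inv_right c).eq]; group,
    show a * S.s * a⁻¹ * (ζ⁻¹ * ω * ζ)⁻¹ = ζ⁻¹ * (ω⁻¹ * (a * S.s * a⁻¹)) * ζ⁻¹⁻¹ by
      rw [← Q0_comm m' (inv_mem hω), ← mul_assoc ζ⁻¹, ← (Commute.inv_right c).eq]; group,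
    f_conj_V n n1 (W_le_V hζ), f_conj_V n n1 (inv_mem (W_le_V hζ))] at a2
  have c2 := W_comm_Ks hζ (Ks_mul (mem_K.mp ha) (mem_K.mp ha))
  generalize S.f (ω⁻¹ * (a * S.s * a⁻¹)) = U at a2 ⊢
  generalize a * S.s * a⁻¹ = u at a2 c ⊢
  calc _ = ζ⁻¹ * (ζ * (a * a) * U * (ζ * (a * a))⁻¹ * (ζ * u)) := by group
    _ = ζ⁻¹ * (a * a * (ζ * U * ζ⁻¹) * (a * a)⁻¹ * u) * ζ := by rw [c2, ← c]; group
    _ = _ := by rw [a2]; group

end Suz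

open Suz0

/-- the field `E = F_{q²}` on `Q/Q₀` and the coordinate `β` on `Q₀`. -/
structure UC (S : Suz G) (ω ζ : G) {E : Type} [Field E] (σ : E →+* E) (φ ψ β : G → E) : Prop where
  hN : S.N = ⊥
  h3 : orderOf (S.s * S.t) = 3
  hsq : ∀ x ∈ S.Q, x * x ∈ S.Q0
  hc : Nat.card S.Q = S.q ^ 3
  om : S.Om ω ζ
  fa : FieldAct S.Q0 S.Q (S.K ⊔ zpowers ζ) φ ψ
  ms : MinSec (S.K ⊔ zpowers ζ) S.Q0 S.Q
  σ_eq : ∀ x, σ x = x ^ S.q
  σσ : ∀ x, σ (σ x) = x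
  one : φ ω = 1
  β1 : β 1 = 0
  βs : ∀ k ∈ S.K, β (k * S.s * k⁻¹) = ψ k ^ 2

theorem Suz.exists_uc {S : Suz G} (hq : 2 < S.q) (hN : S.N = ⊥) (h : S.TypC) :
    ∃ (ω ζ : G) (E : Type) (_ : Field E) (_ : Fintype E) (_ : CharP E 2) (σ : E →+* E) (φ ψ β : G → E),
      Fintype.card E = S.q ^ 2 ∧ UC S ω ζ σ φ ψ β := by
  classical
  obtain ⟨h2, hc, h3, ω, ζ, om⟩ := h
  obtain ⟨hω, h0, hζ, ζ1, e⟩ := id om
  have hsq := Suz.sq_mem hq hN h2 (fun c => ζ1 (hN ▸ c ▸ hζ))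
  have hD : S.K ⊔ zpowers ζ ≤ S.D := sup_le K_le_D (zpowers_le.mpr (W_le_D hζ))
  have ms : MinSec (S.K ⊔ zpowers ζ) S.Q0 S.Q := by
    refine ⟨lt_of_le_of_ne Q0_le_Q fun e => h0 (e ▸ hω), nrm_DQ0.mono hD, S.nrm_DQ.mono hD,
      fun B h1 h2 h3 => ?_⟩
    by_contra! hB
    obtain ⟨b, hb, hb'⟩ := SetLike.exists_of_lt (lt_of_le_of_ne h1 hB.1.symm)
    have c1 := card_mul_le le_rfl (h3.mono le_sup_left) nrm_KQ (lt_of_le_of_ne h2 hB.2)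
    rw [hc, pow_succ'] at c1
    have hb2 := h3 ζ (mem_sup_right (mem_zpowers ζ)) b hb
    refine ζ1 (mem_N_of_fix hsq hc.le hζ (h2 hb) hb' ?_)
    have := nrm_HQ0 b (S.Q_le_H (h2 hb)) _ (S.Q0.inv_mem (sq_inj h2 (h3.mono le_sup_left) h1
      (Nat.le_of_mul_le_mul_left c1 (by omega)) hb2 hb (hsq _ (h2 hb2))
      (by rw [conj_mul, ← mem_C.1 hζ.2 _ (hsq b (h2 hb)), mul_inv_cancel_right])))
    simpa [commutatorElement_def, mul_assoc] using this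
  obtain ⟨F, _, φ, ψ, fa, one⟩ := ms.exists_fieldAct_one (D_le_Q0 hsq) (D_eq_bot.mpr
    (ab_K.sup (ab_zpowers ζ) (le_C_comm.mp (zpowers_le.mpr (W_le_C_K hζ)))) ▸ bot_le) hω h0
  obtain ⟨n, hn, hqn⟩ := exists_q_eq (S := S.toSuz0)
  haveI := fa.finite
  haveI := Fintype.ofFinite F
  haveI := Fintype.ofFinite (GaloisField 2 (n * 2))
  have c1 : Fintype.card (GaloisField 2 (n * 2)) = S.q ^ 2 := by
    rw [Fintype.card_eq_nat_card, GaloisField.card 2 _ (by omega), pow_mul, hqn]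
  let i := FiniteField.ringEquivOfCardEq (K := F) (K' := GaloisField 2 (n * 2)) (by
    rw [c1, Fintype.card_eq_nat_card, fa.card]
    exact relIndex_eq_of_mul Q0_le_Q (by rw [hc, pow_succ' _ 2]; rfl))
  refine ⟨ω, ζ, _, _, _, inferInstance, iterateFrobenius _ 2 n, i ∘ φ, i ∘ ψ,
    fun u => if h : ∃ k ∈ S.K, k * S.s * k⁻¹ = u then i (ψ h.choose) ^ 2 else 0, c1, hN, h3, hsq, hc, om,
    ⟨fa.le, fa.nrm, fun x hx y hy => by simp [fa.add x hx y hy], fun x hx => by simp [fa.ker x hx],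
      fun z => by simpa [i.eq_symm_apply] using fa.surj (i.symm z),
      fun a ha x hx => by simp [fa.act a ha x hx]⟩, ms,
    fun x => by rw [hqn, iterateFrobenius_def], fun x => ?_, by simp [one],
    dif_neg (by simp [S.s_ne]), fun k hk => ?_⟩
  · rw [iterateFrobenius_def, iterateFrobenius_def, ← pow_mul, ← hqn, ← sq, ← c1, FiniteField.pow_card]
  · have : ∃ k' ∈ S.K, k' * S.s * k'⁻¹ = k * S.s * k⁻¹ := ⟨k, hk, rfl⟩
    rw [dif_pos this, Ks_eq_of_conj S.s_mem S.s_ne S.ss (mem_K.mp this.choose_spec.1) (mem_K.mp hk)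
      this.choose_spec.2]; rfl

namespace UC

variable {S : Suz G} {ω ζ : G} {E : Type} [Field E] [Finite E] [CharP E 2] {σ : E →+* E}
  {φ ψ β : G → E} (h : UC S ω ζ σ φ ψ β)
include h

omit h [Finite G] [FTthm.{u}] in
theorem kA {k : G} (hk : k ∈ S.K) : k ∈ S.K ⊔ zpowers ζ := mem_sup_left hk
omit h [Finite G] [FTthm.{u}] in
theorem zA : ζ ∈ S.K ⊔ zpowers ζ := mem_sup_right (mem_zpowers ζ)

theorem A_le : S.K ⊔ zpowers ζ ≤ S.D := sup_le K_le_D (zpowers_le.mpr (W_le_D h.om.2.2.1))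

theorem ω1 : ω ≠ 1 := fun e => h.om.2.1 (e ▸ one_mem _)

theorem psi_inv {a : G} (ha : a ∈ S.K ⊔ zpowers ζ) : ψ a⁻¹ = (ψ a)⁻¹ :=
  eq_inv_of_mul_eq_one_left (by rw [← h.fa.psi_mul (inv_mem ha) ha, inv_mul_cancel, h.fa.psi_one])

theorem fpf {k w : G} (hk : k ∈ S.K) (hw : w ∈ zpowers ζ) (e : ψ k = ψ w) : k = 1 ∧ w = 1 := by
  have a := mul_mem (inv_mem (kA hk)) (mem_sup_right hw)
  have := KW_fpf h.hsq h.hc.le (inv_mem hk) (zpowers_le.mpr h.om.2.2.1 hw) h.om.1 h.om.2.1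
    ((h.fa.comm_mem_iff a h.om.1).mpr (Or.inl (by
      rw [h.fa.psi_mul (inv_mem (kA hk)) (mem_sup_right hw), h.psi_inv (kA hk), ← e,
        inv_mul_cancel₀ (h.fa.psi_ne_zero (kA hk))])))
  simpa [h.hN] using this

theorem psi_inj {k l : G} (hk : k ∈ S.K) (hl : l ∈ S.K) (e : ψ k = ψ l) : k = l :=
  mul_inv_eq_one.mp (h.fpf (mul_mem hk (inv_mem hl)) (one_mem _) (by
    rw [h.fa.psi_mul (kA hk) (inv_mem (kA hl)), h.psi_inv (kA hl), e, h.fa.psi_one,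
      mul_inv_cancel₀ (h.fa.psi_ne_zero (kA hl))])).1

theorem psi_pow {k : G} (hk : k ∈ S.K) : ψ k ^ Nat.card S.K = 1 := by
  rw [← h.fa.psi_pow (kA hk), show k ^ Nat.card S.K = 1 from
    congrArg Subtype.val (pow_card_eq_one' (x := (⟨k, hk⟩ : S.K))), h.fa.psi_one]

theorem σ_K {k : G} (hk : k ∈ S.K) : σ (ψ k) = ψ k := by
  rw [h.σ_eq, ← card_K_succ, pow_succ, h.psi_pow hk, one_mul]

theorem exists_K {b : E} (hb : σ b = b) (h0 : b ≠ 0) : ∃ k ∈ S.K, ψ k = b := by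
  haveI : NeZero (Nat.card S.K) := ⟨Nat.card_pos.ne'⟩
  obtain ⟨k, e⟩ := (Function.Injective.bijective_of_nat_card_le
    (f := fun k : S.K => rootsOfUnity.mkOfPowEq (ψ k) (h.psi_pow k.2))
    (fun a b e => Subtype.ext (h.psi_inj a.2 b.2 (congrArg (fun x : rootsOfUnity _ E => (x.1 : E)) e)))
    (card_rootsOfUnity E _)).2 (rootsOfUnity.mkOfPowEq b (mul_right_cancel₀ h0 (by
      rw [← pow_succ, card_K_succ, ← h.σ_eq, hb, one_mul])))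
  exact ⟨k, k.2, congrArg (fun x : rootsOfUnity _ E => (x.1 : E)) e⟩

theorem z_mul : ψ ζ * σ (ψ ζ) = 1 := by
  have z0 := h.fa.psi_ne_zero (zA (ζ := ζ))
  obtain ⟨k, hk, e⟩ := h.exists_K (b := ψ ζ * σ (ψ ζ)) (by rw [map_mul, h.σσ, mul_comm])
    (mul_ne_zero z0 ((map_ne_zero σ).mpr z0))
  rw [← e, (h.fpf hk (pow_mem (mem_zpowers ζ) (S.q + 1)) (by
    rw [e, h.fa.psi_pow zA, h.σ_eq, pow_succ'])).1, h.fa.psi_one]

theorem z_ne : σ (ψ ζ) ≠ ψ ζ := fun c => by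
  obtain ⟨k, hk, e⟩ := h.exists_K c (h.fa.psi_ne_zero zA)
  exact h.om.2.2.2.1 ((h.fpf hk (mem_zpowers ζ) e).2 ▸ one_mem _)

omit h in
theorem cases {u : G} (hu : u ∈ S.Q0) : u = 1 ∨ ∃ k ∈ S.K, u = k * S.s * k⁻¹ := by
  by_cases c : u = 1
  · exact Or.inl c
  obtain ⟨k, hk, e⟩ := S.exists_Ks_s hu c
  exact Or.inr ⟨k, Ks_le_K hk, e.symm⟩

theorem β_conj {k u : G} (hk : k ∈ S.K) (hu : u ∈ S.Q0) : β (k * u * k⁻¹) = ψ k ^ 2 * β u := by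
  rcases cases hu with rfl | ⟨l, hl, rfl⟩
  · simp [h.β1]
  · rw [show k * (l * S.s * l⁻¹) * k⁻¹ = k * l * S.s * (k * l)⁻¹ by group, h.βs _ (mul_mem hk hl),
      h.βs _ hl, h.fa.psi_mul (kA hk) (kA hl), mul_pow]

theorem β_σ {u : G} (hu : u ∈ S.Q0) : σ (β u) = β u := by
  rcases cases hu with rfl | ⟨l, hl, rfl⟩
  · simp [h.β1]
  · rw [h.βs _ hl, map_pow, h.σ_K hl]

theorem β_zero {u : G} (hu : u ∈ S.Q0) (e : β u = 0) : u = 1 := by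
  rcases cases hu with rfl | ⟨l, hl, rfl⟩
  · rfl
  · exact absurd (h.βs _ hl ▸ e) (pow_ne_zero _ (h.fa.psi_ne_zero (kA hl)))

theorem β_surj {b : E} (hb : σ b = b) : ∃ u ∈ S.Q0, β u = b := by
  obtain ⟨c, hc, rfl⟩ := u3_sq h.σσ hb
  by_cases c0 : c = 0
  · exact ⟨1, one_mem _, by simp [h.β1, c0]⟩
  obtain ⟨k, hk, rfl⟩ := h.exists_K hc c0
  exact ⟨_, nrm_KQ0 k hk _ S.s_Q0, h.βs k hk⟩

theorem φ_mul {x u : G} (hx : x ∈ S.Q) (hu : u ∈ S.Q0) : φ (x * u) = φ x := by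
  rw [h.fa.add x hx u (Q0_le_Q hu), (h.fa.ker u (Q0_le_Q hu)).mpr hu, add_zero]

theorem main : S.h ω = (ζ * ζ * ζ)⁻¹ ∧ ∀ u ∈ S.Q0, β (ω * ω * u) = β u + (ψ ζ + σ (ψ ζ)) ∧
    φ (S.f (ω⁻¹ * u)) * (β u + ψ ζ) = 1 := by
  have two : (2 : E) = 0 := CharTwo.two_eq_zero
  obtain ⟨hω, h0, hζ, -, e⟩ := h.om
  obtain ⟨e1, e2, e3, e4⟩ := Suz.om_h hω h.ω1 hζ e
  have ζV := W_le_V hζ
  set η := ζ * S.h ω * ζ * ζ with hη
  have ηV : η ∈ S.V := mul_mem (mul_mem (mul_mem ζV e2) ζV) ζV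
  have Y := zpowers_le.mpr ηV
  have ηζ : η * ζ * η⁻¹ = ζ := by
    rw [mul_inv_eq_iff_eq_mul, hη]; simp only [mul_assoc, ← mul_assoc (S.h ω) ζ, e3]
  obtain ⟨m, m1, m2⟩ := h.fa.exists_sigma h.ms hω h.one (nrm_DQ0.mono (Y.trans V_le_D))
    (S.nrm_DQ.mono (Y.trans V_le_D)) ((nrm_VK.mono Y).sup (nrm_of_le_C (zpowers_le.mpr
      (mem_C.mpr fun x hx => mem_C1.mp ((zpowers_le (H := C1 η)).mpr (mem_C1.mpr
        (mul_inv_eq_iff_eq_mul.mp ηζ).symm) hx))))) (fun y hy => by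
      rw [commutatorElement_eq_one_iff_mul_comm.mpr (mem_C1.mp
        ((zpowers_le (H := C1 ω)).mpr (mem_C1.mpr e4) hy))]
      exact one_mem _)
  set μ := m ⟨η, mem_zpowers η⟩ with hμ
  have n1 : ∀ x ∈ S.Q, φ (η * x * η⁻¹) = μ (φ x) := m1 ⟨η, mem_zpowers η⟩
  have n2 : ∀ x ∈ S.Q, φ (η⁻¹ * x * η) = μ.symm (φ x) := fun x hx => by
    rw [μ.eq_symm_apply, ← n1 _ (conjQ' (S.D_le_H (V_le_D ηV)) hx)]; congr 1; group
  have μz : μ (ψ ζ) = ψ ζ := by rw [← m2 _ _ zA]; exact congrArg ψ ηζ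
  have μσ : ∀ x, σ (μ x) = μ (σ x) := fun x => by rw [h.σ_eq, h.σ_eq, map_pow]
  have zi : ψ ζ⁻¹ = σ (ψ ζ) := by rw [h.psi_inv zA, eq_inv_of_mul_eq_one_right h.z_mul]
  have ωi := inv_mem hω
  have φi : φ ω⁻¹ = 1 := by rw [h.fa.map_inv hω, h.one, CharTwo.neg_eq]
  have fm : ∀ x ∈ S.Q, x ∉ S.Q0 → ∀ u ∈ S.Q0, S.f (x * u) ∈ S.Q := fun x hx h0 u hu =>
    f_mem (mul_mem hx (Q0_le_Q hu)) (fun e => h0 (eq_inv_of_mul_eq_one_left e ▸ inv_mem hu))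
  have lhs : ∀ a ∈ S.K, ∀ U ∈ S.Q, φ (a * a * U * (a * a)⁻¹ * (a * S.s * a⁻¹)) =
      β (a * S.s * a⁻¹) * φ U := fun a ha U hU => by
    rw [h.φ_mul (nrm_KQ _ (mul_mem ha ha) _ hU) (nrm_KQ0 _ ha _ S.s_Q0),
      h.fa.act _ (kA (mul_mem ha ha)) _ hU, h.βs a ha, h.fa.psi_mul (kA ha) (kA ha), sq]
  have ηQ := fun x => conjQ (x := x) (S.D_le_H (V_le_D ηV))
  have ηQ' := fun x => conjQ' (x := x) (S.D_le_H (V_le_D ηV))
  have E1 : ∀ u ∈ S.Q0, β u * φ (S.f (ω⁻¹ * u)) = ψ ζ * μ.symm (φ (S.f (ω⁻¹ * u))) + 1 := by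
    intro u hu
    rcases cases hu with rfl | ⟨a, ha, rfl⟩
    · have := h.fa.act _ (inv_mem zA) _ hω
      rw [inv_inv, h.one, mul_one, zi] at this
      rw [mul_one, e1, this, h.β1, ← μz, μσ, μ.symm_apply_apply, μz, h.z_mul]; grind
    have hU := fm _ ωi (by simpa using h0) _ hu
    have := congrArg φ (Suz.star h.h3 hω h0 hζ e ha)
    rwa [lhs a ha _ hU, show ∀ U, (ζ * S.h ω * ζ)⁻¹ * U * (ζ * S.h ω * ζ) = ζ * (η⁻¹ * U * η) * ζ⁻¹ from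
      fun U => by rw [hη]; group, h.fa.add _ (h.fa.nrm _ zA _ (ηQ' _ hU)) _ ωi,
      h.fa.act _ zA _ (ηQ' _ hU), n2 _ hU, φi] at this
  have E2 : ∀ u ∈ S.Q0, β u * φ (S.f (ω * u)) = σ (ψ ζ) * μ (φ (S.f (ω * u))) + 1 := by
    intro u hu
    rcases cases hu with rfl | ⟨a, ha, rfl⟩
    · rw [mul_one, e, h.fa.act _ zA _ ωi, φi, h.β1, mul_one, μz, mul_comm (σ _), h.z_mul]; grind
    have hU := fm _ hω h0 _ hu
    have := congrArg φ (Suz.star h.h3 ωi (by simpa using h0) (inv_mem hζ) (by simpa using e1) ha)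
    have m := conjQ' (S.D_le_H (W_le_D hζ)) hU
    have e5 := h.fa.act _ (inv_mem zA) _ hU
    rw [inv_inv] at this e5
    rwa [lhs a ha _ hU, h_inv hω h.ω1, V_t (inv_mem e2), show ∀ U, (ζ⁻¹ * (S.h ω)⁻¹ * ζ⁻¹)⁻¹ * U *
      (ζ⁻¹ * (S.h ω)⁻¹ * ζ⁻¹) = η * (ζ⁻¹ * U * ζ) * η⁻¹ from fun U => by rw [hη]; group,
      h.fa.add _ (ηQ _ m) _ hω, n1 _ m, e5, zi, map_mul, ← μσ, μz, h.one] at this
  have γ0 := h.hsq ω hω
  have key := fun u (hu : u ∈ S.Q0) => u3_alg1 h.σσ h.z_mul h.z_ne μ μσ μz (h.β_σ hu)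
    (h.β_σ (mul_mem γ0 hu)) (E1 u hu) (by
      have := E2 _ (mul_mem γ0 hu)
      rwa [← mul_assoc, Suz.mul_sq h.hsq hω] at this)
  have k1 : ∀ b, σ b = b → μ (b * μ b + (ψ ζ + σ (ψ ζ)) * b) = b * μ b + (ψ ζ + σ (ψ ζ)) * b :=
    fun b hb => by obtain ⟨u, hu, rfl⟩ := h.β_surj hb; exact (key u hu).2
  have k2 : ∀ b, σ b = b → μ (μ b) = b := fun b hb => by
    have a1 := k1 b hb
    have a2 := k1 (b + 1) (by simp [hb])
    simp only [map_add, map_mul, map_one, μz, ← μσ] at a1 a2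
    grind
  have k3 : ∀ b, σ b = b → μ b = b := fun b hb => by
    obtain ⟨n, hn⟩ := D_odd (V_le_D ηV)
    have : μ ^ (2 * n + 1) = 1 := by
      rw [hμ, ← map_pow, ← hn, ← map_one m]
      exact congrArg m (Subtype.ext (pow_orderOf_eq_one η))
    have a : ∀ n : ℕ, (μ ^ (2 * n)) b = b := fun n => by
      induction n with
      | zero => simp
      | succ n ih => rw [Nat.mul_succ, pow_add, sq]; exact (congrArg _ (k2 b hb)).trans ih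
    rw [← a n, ← RingAut.mul_apply, ← pow_succ', this, a]; rfl
  have η1 : η = 1 := mem_bot.mp (h.hN ▸ mem_N_of_fix h.hsq h.hc.le (S.mem_W_of_comm ηV fun k hk =>
    mul_inv_eq_iff_eq_mul.mp (h.psi_inj (Ks_le_K (conj_Ks ηV hk)) (Ks_le_K hk)
      ((m2 ⟨η, mem_zpowers η⟩ k (kA (Ks_le_K hk))).trans (k3 _ (h.σ_K (Ks_le_K hk)))))) hω h0
    (by rw [commutatorElement_eq_one_iff_mul_comm.mpr e4]; exact one_mem _))
  have μ1 : μ = 1 := by rw [hμ, ← map_one m]; exact congrArg m (Subtype.ext η1)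
  refine ⟨?_, fun u hu => ⟨by simpa [μ1] using (key u hu).1, ?_⟩⟩
  · calc S.h ω = ζ⁻¹ * η * ζ⁻¹ * ζ⁻¹ := by rw [hη]; group
      _ = _ := by rw [η1]; group
  · have := E1 u hu
    rw [μ1, show ∀ x, (1 : E ≃+* E).symm x = x from fun _ => rfl] at this
    grind

theorem β_add {u v : G} (hu : u ∈ S.Q0) (hv : v ∈ S.Q0) : β (u * v) = β u + β v := by
  by_cases c : u = 1
  · simp [c, h.β1]
  have γ0 := h.hsq ω h.om.1
  obtain ⟨k, hk, rfl⟩ := exists_Ks_conj' γ0 (fun e => h.om.2.1 (mem_Q0_of h.om.1 e)) hu c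
  have hk' := Ks_le_K hk
  have m := nrm_HQ0.conj' (S.D_le_H (Ks_D hk)) hv
  have e1 := (h.main.2 1 (one_mem _)).1
  rw [mul_one, h.β1, zero_add] at e1
  have e2 := h.β_conj hk' m
  rw [show k * (ω * ω) * k⁻¹ * v = k * (ω * ω * (k⁻¹ * v * k)) * k⁻¹ by group,
    h.β_conj hk' (mul_mem γ0 m), (h.main.2 _ m).1, h.β_conj hk' γ0, e1, mul_add, ← e2, add_comm]
  congr 2; group

theorem β_inj {u v : G} (hu : u ∈ S.Q0) (hv : v ∈ S.Q0) (e : β u = β v) : u = v := by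
  have := h.β_zero (mul_mem hu hv) (by rw [h.β_add hu hv, e, CharTwo.add_self_eq_zero])
  rw [eq_inv_of_mul_eq_one_left this, inv_eq_of_sq (Q0_sq hv)]

theorem comm_mem {x y : G} (hx : x ∈ S.Q) (hy : y ∈ S.Q) : ⁅x, y⁆ ∈ S.Q0 :=
  D_le_Q0 h.hsq (commutator_mem_commutator hx hy)

theorem β_sq_mul {x y : G} (hx : x ∈ S.Q) (hy : y ∈ S.Q) :
    β (x * y * (x * y)) = β (x * x) + β (y * y) + β ⁅y, x⁆ := by
  have m := h.comm_mem hy hx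
  rw [← h.β_add (h.hsq x hx) (h.hsq y hy), ← h.β_add (mul_mem (h.hsq x hx) (h.hsq y hy)) m,
    show x * y * (x * y) = x * ⁅y, x⁆ * (x * (y * y)) by rw [commutatorElement_def]; group,
    mul_assoc, Q0_comm m (mul_mem hx (mul_mem hy hy))]
  congr 1; group

theorem β_sq {x : G} (hx : x ∈ S.Q) : β (x * x) = (ψ ζ + σ (ψ ζ)) * (φ x * σ (φ x)) := by
  choose c hc hc' using h.fa.surj
  have e : ∀ x ∈ S.Q, β (c (φ x) * c (φ x)) = β (x * x) := fun x hx => by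
    have := sq_mul_Q0 (hc (φ x)) (nrm_HQ0.conj' (S.Q_le_H (hc (φ x)))
      ((h.fa.eq_iff hx (hc _)).mp (hc' _).symm))
    rw [← this]; congr 2 <;> group
  rw [← e x hx]
  refine u3_alg2 (N := fun a => β (c a * c a)) h.σσ h.z_mul h.z_ne (fun a a' b => ?_)
    (fun l a hl => ?_) (fun a => ?_) ?_ _
  · obtain ⟨a, ha, rfl⟩ := h.fa.surj a
    obtain ⟨a', ha', rfl⟩ := h.fa.surj a'
    obtain ⟨b, hb, rfl⟩ := h.fa.surj b
    have m := mul_mem ha ha'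
    simp only [← h.fa.add _ ha _ ha', ← h.fa.add _ m _ hb, ← h.fa.add _ ha _ hb, ← h.fa.add _ ha' _ hb,
      e _ ha, e _ ha', e _ hb, e _ m, e _ (mul_mem m hb), e _ (mul_mem ha hb), e _ (mul_mem ha' hb)]
    rw [h.β_sq_mul m hb, h.β_sq_mul ha hb, h.β_sq_mul ha' hb, show ⁅b, a * a'⁆ = ⁅b, a⁆ * (a * ⁅b, a'⁆ * a⁻¹)
      by simp only [commutatorElement_def]; group, ← Q0_comm (h.comm_mem hb ha') ha,
      mul_inv_cancel_right, h.β_add (h.comm_mem hb ha) (h.comm_mem hb ha')]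
    have two : (2 : E) = 0 := CharTwo.two_eq_zero
    grind
  · obtain ⟨a, ha, rfl⟩ := h.fa.surj a
    by_cases l0 : l = 0
    · have := e 1 (one_mem _)
      simpa [l0, h.fa.map_one, h.β1] using this
    obtain ⟨k, hk, rfl⟩ := h.exists_K hl l0
    simp only [← h.fa.act k (kA hk) a ha, e _ ha, e _ (nrm_KQ k hk a ha), conj_mul,
      h.β_conj hk (h.hsq a ha)]
  · obtain ⟨a, ha, rfl⟩ := h.fa.surj a
    simp only [← h.fa.act ζ zA a ha, e _ ha, e _ (h.fa.nrm ζ zA a ha), conj_mul,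
      ← mem_C.mp h.om.2.2.1.2 _ (h.hsq a ha), mul_inv_cancel_right]
  · simpa [← h.one, e ω h.om.1, h.β1] using (h.main.2 1 (one_mem _)).1

theorem β_A {a u : G} (ha : a ∈ S.K ⊔ zpowers ζ) (hu : u ∈ S.Q0) :
    β (a * u * a⁻¹) = ψ a * σ (ψ a) * β u := by
  obtain ⟨k, hk, w, hw, rfl⟩ := CfsgH6.Nrm.exists_mul_of_mem_sup
    (nrm_of_le_C (le_C_comm.mp (zpowers_le.mpr (W_le_C_K h.om.2.2.1)))) ha
  rw [show k * w * u * (k * w)⁻¹ = k * (w * u * w⁻¹) * k⁻¹ by group,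
    ← mem_C.mp (zpowers_le.mpr h.om.2.2.1 hw).2 _ hu, mul_inv_cancel_right, h.β_conj hk hu,
    h.fa.psi_mul (kA hk) (mem_sup_right hw), map_mul, h.σ_K hk]
  obtain ⟨n, rfl⟩ := mem_powers_iff_mem_zpowers.mpr hw
  rw [h.fa.psi_pow zA, map_pow, mul_mul_mul_comm, ← mul_pow, h.z_mul, one_pow, mul_one, sq]

theorem exists_Y {x : G → E} (fa : FieldAct S.Q0 S.Q (S.K ⊔ zpowers ζ) x ψ)
    (hx : ∀ g ∈ S.Q, β (g * g) = x g * σ (x g)) : ∃ Y : G → E,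
      (∀ a ∈ S.Q, ∀ b ∈ S.Q, Y (a * b) = Y a + Y b + x a * σ (x b)) ∧ (∀ u ∈ S.Q0, Y u = β u) ∧
      (∀ g ∈ S.Q, Y g + σ (Y g) = x g * σ (x g)) ∧
      ∀ a ∈ S.K ⊔ zpowers ζ, ∀ g ∈ S.Q, Y (a * g * a⁻¹) = ψ a * σ (ψ a) * Y g := by
  classical
  have two : (2 : E) = 0 := CharTwo.two_eq_zero
  obtain ⟨δ, hδ⟩ : ∃ δ, δ + σ δ = 1 := by
    have : ψ ζ + σ (ψ ζ) ≠ 0 := fun e => h.z_ne (by grind)
    exact ⟨ψ ζ / (ψ ζ + σ (ψ ζ)), by
      rw [map_div₀, map_add, h.σσ, add_comm (σ _), ← add_div, div_self this]⟩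
  let F := σ.eqLocusField (RingHom.id E)
  have : ∀ b : F, ∃ u : S.Q, (u : G) ∈ S.Q0 ∧ β u = b := fun b =>
    (h.β_surj b.2).elim fun u hu => ⟨⟨u, Q0_le_Q hu.1⟩, hu⟩
  choose ι ι1 ι2 using this
  have x0 : ∀ b, x (ι b) = 0 := fun b => (fa.ker _ (ι b).2).mpr (ι1 b)
  obtain ⟨y, y1, y2⟩ := CfsgH2.exists_cocycle_split ι
    (fun a b => ⟨δ * x a * σ (x b) + σ δ * σ (x a) * x b, by
      simp [F, RingHom.mem_eqLocusField, h.σσ, add_comm]⟩)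
    (fun a b => Subtype.ext (h.β_inj (ι1 _) (mul_mem (ι1 a) (ι1 b)) (by
      rw [coe_mul, h.β_add (ι1 a) (ι1 b), ι2, ι2, ι2]; rfl)))
    (fun a g => Subtype.ext (Q0_comm (ι1 a) g.2).symm)
    (fun a e => Subtype.ext (by rw [← ι2, e]; exact h.β1))
    (fun a b c => Subtype.ext (by simp [fa.add _ a.2 _ b.2]; ring))
    (fun a b c => Subtype.ext (by simp [fa.add _ b.2 _ c.2]; ring))
    (fun a b => Subtype.ext (by simp [x0])) (fun a b => Subtype.ext (by simp [x0]))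
    (fun g => Subtype.ext (h.β_inj (h.hsq _ g.2) (ι1 _) (by rw [ι2, coe_mul, hx _ g.2]; grind)))
    (fun a b => Subtype.ext (by
      have e := h.β_sq_mul b.2 a.2
      rw [hx _ (mul_mem b.2 a.2), hx _ a.2, hx _ b.2, fa.add _ b.2 _ a.2, map_add] at e
      have m := h.comm_mem a.2 b.2
      simp only [coe_mul]
      rw [show (a : G) * b = ⁅(a : G), (b : G)⁆ * (b * a) by rw [commutatorElement_def]; group,
        Q0_comm m (mul_mem b.2 a.2), mul_assoc, mul_right_inj]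
      exact h.β_inj (mul_mem m (ι1 _)) (ι1 _) (by
        rw [h.β_add m (ι1 _), ι2, ι2]
        generalize β ⁅(a : G), (b : G)⁆ = c at e
        grind)))
  let y' : G → E := fun g => if hg : g ∈ S.Q then y ⟨g, hg⟩ + σ δ * (x g * σ (x g)) else 0
  have z1 : ∀ a ∈ S.Q, ∀ b ∈ S.Q, y' (a * b) = y' a + y' b + x a * σ (x b) := fun a ha b hb => by
    have := congrArg Subtype.val (y1 ⟨a, ha⟩ ⟨b, hb⟩)
    simp only [y', dif_pos ha, dif_pos hb, dif_pos (mul_mem ha hb), fa.add a ha b hb, map_add]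
    simp only [MulMemClass.mk_mul_mk, AddMemClass.coe_add] at this
    grind
  have z2 : ∀ u ∈ S.Q0, y' u = β u := fun u hu => by
    have : (⟨u, Q0_le_Q hu⟩ : S.Q) = ι ⟨β u, h.β_σ hu⟩ :=
      Subtype.ext (h.β_inj hu (ι1 _) (ι2 ⟨β u, h.β_σ hu⟩).symm)
    simp [y', Q0_le_Q hu, this, y2, (fa.ker u (Q0_le_Q hu)).mpr hu]
  have z3 : ∀ g ∈ S.Q, y' g + σ (y' g) = x g * σ (x g) := fun g hg => by
    have : σ (y ⟨g, hg⟩) = y ⟨g, hg⟩ := (y ⟨g, hg⟩).2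
    simp only [y', dif_pos hg, map_add, map_mul, h.σσ, this]
    grind
  haveI := Fintype.ofFinite (S.K ⊔ zpowers ζ : Subgroup G)
  have n0 : ∀ a ∈ S.K ⊔ zpowers ζ, ψ a * σ (ψ a) ≠ 0 := fun a ha =>
    mul_ne_zero (fa.psi_ne_zero ha) ((map_ne_zero σ).mpr (fa.psi_ne_zero ha))
  have cs : ∀ c : E, ∑ _a : (S.K ⊔ zpowers ζ : Subgroup G), c = c := fun c => by
    obtain ⟨n, hn⟩ := S.odd.of_dvd_nat (card_dvd_of_le h.A_le)
    rw [Finset.sum_const, Finset.card_univ, Fintype.card_eq_nat_card, hn]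
    simp [two]
  refine ⟨fun g => ∑ a : (S.K ⊔ zpowers ζ : Subgroup G), (ψ a * σ (ψ a))⁻¹ * y' (a * g * (a : G)⁻¹),
    fun a ha b hb => ?_, fun u hu => ?_, fun g hg => ?_, fun a ha g hg => ?_⟩
  · rw [← cs (x a * _), ← Finset.sum_add_distrib, ← Finset.sum_add_distrib]
    refine Finset.sum_congr rfl fun c _ => ?_
    have := n0 c c.2
    rw [← conj_mul, z1 _ (fa.nrm c c.2 a ha) _ (fa.nrm c c.2 b hb), fa.act c c.2 a ha,
      fa.act c c.2 b hb, map_mul]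
    grind
  · rw [← cs (β u)]
    refine Finset.sum_congr rfl fun c _ => ?_
    rw [z2 _ (fa.nrm0 c c.2 u hu), h.β_A c.2 hu, inv_mul_cancel_left₀ (n0 c c.2)]
  · rw [← cs (x g * _), map_sum, ← Finset.sum_add_distrib]
    refine Finset.sum_congr rfl fun c _ => ?_
    have := n0 c c.2
    have e := z3 _ (fa.nrm c c.2 g hg)
    rw [fa.act c c.2 g hg, map_mul] at e
    rw [map_mul, map_inv₀, map_mul, h.σσ]
    grind
  · rw [Finset.mul_sum]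
    refine Fintype.sum_equiv (Equiv.mulRight (⟨a, ha⟩ : (S.K ⊔ zpowers ζ : Subgroup G))) _ _
      fun c => ?_
    have := n0 a ha
    have := n0 c c.2
    simp only [Equiv.coe_mulRight, coe_mul, fa.psi_mul c.2 ha, map_mul, mul_inv_rev, mul_assoc]
    grind

end UC

/-- coordinates `(x, y)` on `Q` with `y + σ y = x σ x` and `f (x, y) = (x / y, 1 / y)`. -/
structure UCo (S : Suz G) {E : Type} [Field E] (σ : E →+* E) (x y : G → E) : Prop where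
  x_mul : ∀ a ∈ S.Q, ∀ b ∈ S.Q, x (a * b) = x a + x b
  y_mul : ∀ a ∈ S.Q, ∀ b ∈ S.Q, y (a * b) = y a + y b + x a * σ (x b)
  ker : ∀ a ∈ S.Q, x a = 0 ↔ a ∈ S.Q0
  inj : ∀ a ∈ S.Q, ∀ b ∈ S.Q, x a = x b → y a = y b → a = b
  tr : ∀ a ∈ S.Q, y a + σ (y a) = x a * σ (x a)
  surj : ∀ u v, v + σ v = u * σ u → ∃ a ∈ S.Q, x a = u ∧ y a = v
  f : ∀ a ∈ S.Q, a ≠ 1 → x (S.f a) * y a = x a ∧ y (S.f a) * y a = 1
  K : ∀ k ∈ S.K, ∃ m, ∀ u ∈ S.Q0, y (k * u * k⁻¹) = m * y u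

theorem UC.exists_uco {S : Suz G} {ω ζ : G} {E : Type} [Field E] [Finite E] [CharP E 2] {σ : E →+* E}
    {φ ψ β : G → E} (h : UC S ω ζ σ φ ψ β) : ∃ x y, UCo S σ x y := by
  have two : (2 : E) = 0 := CharTwo.two_eq_zero
  have zz := h.z_mul
  have T0 : ψ ζ + σ (ψ ζ) ≠ 0 := fun e => h.z_ne (by grind)
  obtain ⟨ε, ε1, ε2⟩ := u3_sq h.σσ (b := ψ ζ + σ (ψ ζ)) (by rw [map_add, h.σσ, add_comm])
  have ε0 : ε ≠ 0 := fun e => T0 (by rw [← ε2, e]; simp)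
  have fa := h.fa.scale ε0
  obtain ⟨y, y1, y2, y3, y4⟩ := h.exists_Y fa (fun g hg => by rw [h.β_sq hg, map_mul, ε1, ← ε2]; ring)
  obtain ⟨hω, h0, hζ, -, e⟩ := h.om
  obtain ⟨m0, m1⟩ := h.main
  have xω : ∀ u ∈ S.Q0, ε * φ (S.f (ω⁻¹ * u)) * (β u + ψ ζ) = ε := fun u hu => by
    rw [mul_assoc, (m1 u hu).2, mul_one]
  have x1 : ε * φ ω = ε := by rw [h.one, mul_one]
  generalize hx : (fun g => ε * φ g) = x at fa
  simp only [show ∀ g, ε * φ g = x g from congrFun hx] at y1 y3 xω x1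
  have x0 : ∀ u ∈ S.Q0, x u = 0 := fun u hu => (fa.ker u (Q0_le_Q hu)).mpr hu
  have xu : ∀ g ∈ S.Q, ∀ u ∈ S.Q0, x (g * u) = x g := fun g hg u hu => by
    rw [fa.add g hg u (Q0_le_Q hu), x0 u hu, add_zero]
  have yu : ∀ g ∈ S.Q, ∀ u ∈ S.Q0, y (g * u) = y g + β u := fun g hg u hu => by
    rw [y1 g hg u (Q0_le_Q hu), x0 u hu, y2 u hu, map_zero, mul_zero, add_zero]
  have yK : ∀ k ∈ S.K, ∀ g ∈ S.Q, y (k * g * k⁻¹) = ψ k ^ 2 * y g := fun k hk g hg => by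
    rw [y4 k (UC.kA hk) g hg, h.σ_K hk, sq]
  have yz : ∀ g ∈ S.Q, y (ζ * g * ζ⁻¹) = y g := fun g hg => by rw [y4 ζ UC.zA g hg, zz, one_mul]
  have ωi := inv_mem hω
  have xi : x ω⁻¹ = ε := by rw [fa.map_inv hω, x1, CharTwo.neg_eq]
  have ne : ∀ g ∈ S.Q, g ∉ S.Q0 → ∀ u ∈ S.Q0, g * u ≠ 1 := fun g _ h0 u hu e =>
    h0 (eq_inv_of_mul_eq_one_left e ▸ inv_mem hu)
  have fm : ∀ g ∈ S.Q, g ∉ S.Q0 → ∀ u ∈ S.Q0, S.f (g * u) ∈ S.Q := fun g hg h0 u hu =>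
    f_mem (mul_mem hg (Q0_le_Q hu)) (ne g hg h0 u hu)
  have h0' : ω⁻¹ ∉ S.Q0 := by simpa using h0
  have st : ∀ a ∈ S.K, ∀ u, u = a * S.s * a⁻¹ → β u ^ 2 * y (S.f (ω⁻¹ * u)) + β u =
      y (S.f (ω⁻¹ * u)) + y ω⁻¹ + ψ ζ * x (S.f (ω⁻¹ * u)) * ε := by
    rintro a ha _ rfl
    have m := nrm_KQ0 a ha _ S.s_Q0
    have hU := fm _ ωi h0' _ m
    have := congrArg y (Suz.star h.h3 hω h0 hζ e ha)
    rwa [yu _ (nrm_KQ _ (mul_mem ha ha) _ hU) _ m, yK _ (mul_mem ha ha) _ hU, m0,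
      show ∀ U, (ζ * (ζ * ζ * ζ)⁻¹ * ζ)⁻¹ * U * (ζ * (ζ * ζ * ζ)⁻¹ * ζ) = ζ * U * ζ⁻¹ from
        fun U => by group, y1 _ (fa.nrm _ UC.zA _ hU) _ ωi, yz _ hU, fa.act _ UC.zA _ hU, xi, ε1,
      h.fa.psi_mul (UC.kA ha) (UC.kA ha), ← sq, ← h.βs a ha] at this
  have βs : β S.s = 1 := by simpa [h.fa.psi_one] using h.βs 1 (one_mem _)
  have z1 : ψ ζ + 1 ≠ 0 := fun c => h.z_ne (by rw [show ψ ζ = 1 by grind, map_one])
  have ρ : y ω⁻¹ = ψ ζ := by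
    have a1 := st 1 (one_mem _) S.s (by simp)
    have a2 := xω _ S.s_Q0
    rw [βs] at a1 a2
    exact mul_left_cancel₀ z1 (by grind)
  have g0 : ∀ u ∈ S.Q0, u ≠ S.s → y (S.f (ω⁻¹ * u)) * (β u + ψ ζ) = 1 := by
    intro u hu us
    rcases UC.cases hu with rfl | ⟨a, ha, e'⟩
    · have a1 := y1 ω hω _ ωi
      have a2 := yz _ (conjQ' (S.D_le_H (W_le_D hζ)) hω)
      rw [mul_inv_cancel, y2 1 (one_mem _), h.β1, ρ, x1, xi, ε1] at a1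
      rw [mul_one, (Suz.om_h hω h.ω1 hζ e).1, ← a2, show ζ * (ζ⁻¹ * ω * ζ) * ζ⁻¹ = ω by group, h.β1]
      grind
    · have a1 := st a ha u e'
      have a2 := xω u hu
      have a3 : β u + 1 ≠ 0 := fun c => us (h.β_inj hu S.s_Q0 (by grind))
      exact mul_left_cancel₀ (pow_ne_zero 2 a3) (by grind)
  have g1 : ∀ u ∈ S.Q0, y (S.f (ω⁻¹ * u)) * (β u + ψ ζ) = 1 := by
    intro u hu
    by_cases us : u ≠ S.s
    · exact g0 u hu us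
    obtain rfl := not_not.mp us
    have γ0 := h.hsq ω hω
    have a1 := g0 _ (mul_mem γ0 hu) (fun c => h0 (mem_Q0_of hω (by simpa using c)))
    have a2 := Suz.f_mul_s h.h3 hω h0 (one_mem _)
    simp only [inv_one, mul_one, one_mul, e] at a2
    rw [show ζ * ω⁻¹ * ζ⁻¹ * S.s = ζ * (ω⁻¹ * S.s) * ζ⁻¹ by
      rw [mul_assoc, mul_assoc, ← (Commute.inv_right (mem_C.mp hζ.2 _ hu)).eq]; group,
      f_conj_V (mul_mem ωi S.s_mem) (ne _ ωi h0' _ hu) (W_le_V hζ)] at a2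
    rw [(m1 _ hu).1, show ω⁻¹ * (ω * ω * S.s) = ω * S.s by group, a2,
      yu _ (fa.nrm _ UC.zA _ (fm _ ωi h0' _ hu)) _ hu, yz _ (fm _ ωi h0' _ hu), βs] at a1
    rw [βs]
    grind
  let P : G → Prop := fun a => x (S.f a) * y a = x a ∧ y (S.f a) * y a = 1
  have p1 : ∀ u ∈ S.Q0, P (ω⁻¹ * u) := fun u hu => by
    simp only [P, yu _ ωi u hu, xu _ ωi u hu, ρ, xi, add_comm (ψ ζ)]
    exact ⟨xω u hu, g1 u hu⟩
  have p2 : ∀ g ∈ S.Q, g ∉ S.Q0 → (∀ u ∈ S.Q0, P (g * u)) → ∀ u ∈ S.Q0, P (S.f g * u) := by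
    intro g hg h0 hp u hu
    have g1 : g ≠ 1 := fun e => h0 (e ▸ one_mem _)
    have a0 := hp 1 (one_mem _)
    simp only [P, mul_one] at a0 ⊢
    rcases UC.cases hu with rfl | ⟨a, ha, rfl⟩
    · rw [mul_one, f_f hg g1]; grind
    have m : a⁻¹ * S.s * a⁻¹⁻¹ ∈ S.Q0 := nrm_KQ0 _ (inv_mem ha) _ S.s_Q0
    have a1 := h.βs _ (inv_mem ha)
    rw [h.psi_inv (UC.kA ha)] at a1
    rw [inv_inv] at m a1
    have a2 := hp _ m
    have hU : S.f (S.f g * (a * S.s * a⁻¹)) ∈ S.Q := fm _ (f_mem hg g1) (fun c => h0 (by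
      rw [← f_f hg g1]; exact (S.fg_Q0 h.h3 c (f_ne hg g1)).1)) _ hu
    have aa := mul_mem ha ha
    simp only [P, Suz.f_mul_s h.h3 hg h0 ha, xu _ (nrm_KQ _ aa _ hU) _ hu, yu _ (nrm_KQ _ aa _ hU) _ hu,
      yK _ aa _ hU, fa.act _ (UC.kA aa) _ hU, fa.psi_mul (UC.kA ha) (UC.kA ha), xu g hg _ m, yu g hg _ m,
      a1, h.βs a ha] at a2
    rw [xu _ (f_mem hg g1) _ hu, yu _ (f_mem hg g1) _ hu, h.βs a ha]
    have := fa.psi_ne_zero (UC.kA ha)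
    grind
  have p3 : ∀ k ∈ S.K, ∀ g ∈ S.Q, g ≠ 1 → P g → P (k * g * k⁻¹) := by
    intro k hk g hg g1 hp
    have a1 := fa.act _ (UC.kA (inv_mem hk)) _ (f_mem hg g1)
    have a2 := yK _ (inv_mem hk) _ (f_mem hg g1)
    rw [inv_inv, h.psi_inv (UC.kA hk)] at a1 a2
    simp only [P, f_conj_Ks hg g1 (mem_K.mp hk), a1, a2, yK k hk g hg, fa.act k (UC.kA hk) g hg] at hp ⊢
    have := fa.psi_ne_zero (UC.kA hk)
    grind
  have p4 : ∀ g ∈ S.Q, (∀ u ∈ S.Q0, P (g * u)) → ∀ a ∈ S.Q, a ∉ S.Q0 → ∀ b, σ b = b → x a = b * x g →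
      P a := by
    intro g hg hp a ha a0 b hb e
    obtain ⟨k, hk, rfl⟩ := h.exists_K hb (fun c => a0 ((fa.ker a ha).mp (by rw [e, c, zero_mul])))
    have m := nrm_HQ0.conj' (S.Q_le_H hg) (nrm_HQ0.conj' (S.D_le_H (K_le_D hk))
      ((fa.eq_iff ha (nrm_KQ k hk g hg)).mp (e.trans (fa.act k (UC.kA hk) g hg).symm)))
    have := p3 k hk _ (mul_mem hg (Q0_le_Q m)) (fun c => a0 (by
      rw [show a = 1 by rw [← (conj_eq_one_iff (a := k)).mpr c]; group]; exact one_mem _)) (hp _ m)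
    rwa [show k * (g * (g⁻¹ * (k⁻¹ * (a * (k * g * k⁻¹)⁻¹) * k) * g)) * k⁻¹ = a by group] at this
  refine ⟨x, y, fa.add, y1, fa.ker, fun a ha b hb e1 e2 => ?_, y3, fun u v e => ?_, fun a ha a1 => ?_,
    fun k hk => ⟨_, fun u hu => yK k hk u (Q0_le_Q hu)⟩⟩
  · have m := nrm_HQ0.conj' (S.Q_le_H hb) ((fa.eq_iff ha hb).mp e1)
    have := yu b hb _ m
    rw [show b * (b⁻¹ * (a * b⁻¹) * b) = a by group, e2, left_eq_add] at this
    have := h.β_zero m this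
    rwa [show b⁻¹ * (a * b⁻¹) * b = b⁻¹ * a by group, inv_mul_eq_one, eq_comm] at this
  · obtain ⟨g, hg, rfl⟩ := fa.surj u
    have := y3 g hg
    obtain ⟨u, hu, e'⟩ := h.β_surj (b := y g + v) (by rw [map_add]; grind)
    exact ⟨g * u, mul_mem hg (Q0_le_Q hu), xu g hg u hu, by rw [yu g hg u hu, e']; grind⟩
  by_cases a0 : a ∈ S.Q0
  · have m := (S.fg_Q0 h.h3 a0 a1).1
    rw [x0 _ m, x0 _ a0, y2 _ m, y2 _ a0, zero_mul]
    rcases UC.cases a0 with rfl | ⟨k, hk, rfl⟩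
    · exact absurd rfl a1
    have := h.βs _ (inv_mem hk)
    rw [inv_inv, h.psi_inv (UC.kA hk)] at this
    rw [S.f_conj_s h.h3 (mem_K.mp hk), this, h.βs k hk, ← mul_pow,
      inv_mul_cancel₀ (fa.psi_ne_zero (UC.kA hk)), one_pow]
    exact ⟨rfl, rfl⟩
  have xa : x a ≠ 0 := fun c => a0 ((fa.ker a ha).mp c)
  obtain ⟨c, d, hc, hd, e'⟩ := u3_basis h.σσ h.z_ne (ε / x a)
  by_cases d0 : d = 0
  · exact p4 _ ωi p1 a ha a0 c⁻¹ (by rw [map_inv₀, hc]) (by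
      rw [xi, show c = ε / x a by simpa [d0] using e'.symm]; field_simp)
  obtain ⟨u, hu, e2⟩ := h.β_surj (b := c / d) (by rw [map_div₀, hc, hd])
  have := xω u hu
  refine p4 _ (fm _ ωi h0' u hu) (p2 _ (mul_mem ωi (Q0_le_Q hu)) (by simpa [mul_mem_cancel_right hu])
    fun v hv => mul_assoc ω⁻¹ u v ▸ p1 _ (mul_mem hu hv)) a ha a0 d⁻¹ (by rw [map_inv₀, hd]) ?_
  rw [e2] at this
  grind

end CfsgSZ
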