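import Cfsg.Agent.L.Char4
import Cfsg.Agent.FT.Base11

set_option autoImplicit false

/-! Wielandt's generalisation of Frobenius' theorem. -/

namespace CfsgSZ

open Subgroup CfsgH5 CfsgH6 CfsgFT CfsgL Cfsg
open ComplexConjugate

universe u

variable {G : Type u} [Group G]

section top
variable [Fintype G] {H T : Subgroup G}
  (hH : ∀ a ∈ H, a ∉ T → ∀ g : G, g * a * g⁻¹ ∈ H → g ∈ H)

theorem wie_apply {θ : H → ℂ} (hθ : ∀ a : H, (a : G) ∈ T → θ a = θ 1) {x : G}
    (hx : ∀ g : G, g * x * g⁻¹ ∈ H → g * x * g⁻¹ ∈ T) : frobExt H θ x = θ 1 := by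
  have : indFun H (θ - fun _ => θ 1) x = 0 := indFun_eq_zero _ _ _ fun y hy => by
    simp [hθ ⟨_, hy⟩ (by simpa using hx y⁻¹ (by simpa using hy))]
  simp [frobExt, this]

include hH

theorem wie_restrict (hT : Nrm H T) {θ : H → ℂ} (hc : IsClassFunction H θ)
    (hθ : ∀ a : H, (a : G) ∈ T → θ a = θ 1) (a : H) : frobExt H θ a = θ a := by
  by_cases ha : (a : G) ∈ T
  · rw [hθ a ha]
    refine wie_apply hθ fun g hg => by_contra fun e => e (hT g ?_ _ ha)
    exact inv_mem_iff.1 (hH _ hg e g⁻¹ (by simp [mul_assoc]))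
  · have := indFun_apply_of_TI H {a | a ∈ H ∧ a ∉ T} (fun a ha g hg => hH a ha.1 ha.2 g hg.1)
      (class_sub hc (class_const (θ 1))) (fun h hh => by
        simp [hθ h (by_contra fun e => hh ⟨h.2, e⟩)]) a ⟨a.2, ha⟩
    simp [frobExt, this]

theorem wie_irr (hT : Nrm H T) {θ : H → ℂ} (hi : IsIrrCharacter H θ)
    (hθ : ∀ a : H, (a : G) ∈ T → θ a = θ 1) : IsIrrCharacter G (frobExt H θ) := by
  let _ := Fintype.ofFinite H
  have hc := char_isClass (irr_isChar hi)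
  apply irr_of_norm_one (frobExt_gen H (gen_of_irr hi))
  · have h1 : classInner (frobExt H θ) (frobExt H θ) =
        classInner (θ - fun _ => θ 1) θ + classInner (fun _ : G => θ 1) (frobExt H θ) := by
      nth_rewrite 1 [frobExt]
      rw [CfsgL.inner_add_left, inner_indFun_left _ _ (frobExt_class H θ)]
      simp only [wie_restrict hH hT hc hθ]
    have h2 : classInner (fun _ : G => θ 1) (frobExt H θ) = classInner (fun _ : H => θ 1) θ := by
      rw [frobExt, CfsgL.inner_add_right, inner_indFun_right _ _ (class_const _), CfsgL.inner_sub_right]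
      have a1 : classInner (fun _ : G => θ 1) (fun _ => θ 1) = θ 1 * conj (θ 1) := by
        have := card_ne_zero' (G := G)
        simp only [classInner, Finset.sum_const, Finset.card_univ, nsmul_eq_mul,
          ← Nat.card_eq_fintype_card]
        field_simp
      have a2 : classInner (fun _ : H => θ 1) (fun _ => θ 1) = θ 1 * conj (θ 1) := by
        have := card_ne_zero' (G := H)
        simp only [classInner, Finset.sum_const, Finset.card_univ, nsmul_eq_mul,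
          ← Nat.card_eq_fintype_card]
        field_simp
      rw [a1, a2]; ring
    rw [h1, h2, CfsgL.inner_sub_left, inner_irr_self hi]; ring
  · have := wie_restrict hH hT hc hθ 1
    rw [coe_one] at this
    obtain ⟨n, hn⟩ := char_deg_nat (irr_isChar hi)
    rw [this, hn]; simp

theorem wielandt_top (hT : Nrm H T) :
    ∃ Q : Subgroup G, ∀ x, x ∈ Q ↔ ∀ g : G, g * x * g⁻¹ ∈ H → g * x * g⁻¹ ∈ T := by
  have := hT.normal_subgroupOf
  let φ := QuotientGroup.mk' (T.subgroupOf H)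
  have e : ∀ θ : H ⧸ T.subgroupOf H → ℂ, ∀ a : H, (a : G) ∈ T → θ (φ a) = θ (φ 1) :=
    fun θ a ha => by rw [map_one, show φ a = 1 from (QuotientGroup.eq_one_iff a).2 ha]
  have i := fun θ : IrrCharacter (H ⧸ T.subgroupOf H) =>
    irr_comp_surjective φ (QuotientGroup.mk'_surjective _) θ.2
  refine ⟨⨅ θ : IrrCharacter (H ⧸ T.subgroupOf H), charKer (frobExt H fun a => θ.1 (φ a)),
    fun x => ⟨fun hx g hg => (QuotientGroup.eq_one_iff (N := T.subgroupOf H) ⟨_, hg⟩).1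
      (eq_one_of_forall_irr fun θ hθ => ?_), fun hx => mem_iInf.2 fun θ => ?_⟩⟩
  · have hc := char_isClass (irr_isChar (i ⟨θ, hθ⟩))
    have := charKer_apply ((charKer_normal (frobExt_class H _)).conj_mem x
      (mem_iInf.1 hx ⟨θ, hθ⟩) g)
    rw [← coe_one (H := H), wie_restrict hH hT hc (e θ)] at this
    exact (wie_restrict hH hT hc (e θ) ⟨_, hg⟩).symm.trans this
  · rw [mem_charKer_iff (irr_isChar (wie_irr hH hT (i θ) (e _))), wie_apply (e _) hx,
      wie_apply (e _) (by simp)]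

end top

/-- Wielandt's theorem. -/
theorem wielandt_frob [Finite G] {X Y T : Subgroup G} (hY : Y ≤ X) (hT : NormalIn T Y)
    (h : ∀ g ∈ X, g ∉ Y → Y ⊓ cj g Y ≤ T) :
    ∃ Q, (∀ x, x ∈ Q ↔ x ∈ X ∧ ∀ g ∈ X, g * x * g⁻¹ ∈ Y → g * x * g⁻¹ ∈ T) ∧ NormalIn Q X ∧
      Q ⊓ Y = T ∧ Q ⊔ Y = X := by
  let _ := Fintype.ofFinite X
  have k : ∀ a ∈ Y, a ∉ T → ∀ g ∈ X, g * a * g⁻¹ ∈ Y → g ∈ Y := fun a ha h1 g hg h2 =>
    by_contra fun e => h1 (h g⁻¹ (inv_mem hg) (mt inv_mem_iff.1 e) ⟨ha, by simpa [mem_cj] using h2⟩)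
  obtain ⟨Q, hQ⟩ := wielandt_top (H := Y.subgroupOf X) (T := T.subgroupOf X)
    (fun a ha h1 g h2 => k a ha h1 g g.2 h2) fun a ha x hx => hT.nrm a ha x hx
  have e : ∀ x, x ∈ Q.map X.subtype ↔ x ∈ X ∧ ∀ g ∈ X, g * x * g⁻¹ ∈ Y → g * x * g⁻¹ ∈ T :=
    fun x => ⟨by
      rintro ⟨x, hx, rfl⟩
      exact ⟨x.2, fun g hg => (hQ x).1 hx ⟨g, hg⟩⟩,
      fun ⟨a, b⟩ => ⟨⟨x, a⟩, (hQ _).2 fun g => b g g.2, rfl⟩⟩
  refine ⟨_, e, ⟨map_subtype_le _, fun g hg x hx => (e _).2 ⟨mul_mem (mul_mem hg ((e x).1 hx).1)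
    (inv_mem hg), fun y hy => ?_⟩⟩, le_antisymm (fun x hx => ?_) (fun x hx => ⟨(e x).2
      ⟨hY (hT.le hx), fun g hg a => by_contra fun b => b (hT.nrm g ?_ x hx)⟩, hT.le hx⟩), ?_⟩
  · simpa [mul_assoc] using ((e x).1 hx).2 (y * g) (mul_mem hy hg)
  · simpa using ((e x).1 hx.1).2 1 (one_mem _) (by simpa using hx.2)
  · exact inv_mem_iff.1 (k _ a b g⁻¹ (inv_mem hg) (by simpa [mul_assoc] using hT.le hx))
  · refine le_antisymm (sup_le (map_subtype_le _) hY) fun x hx => ?_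
    have := eq_top_of_conj_cover ((Q.map X.subtype ⊔ Y).subgroupOf X) fun y => by
      by_cases a : (y : G) ∈ Q.map X.subtype
      · exact ⟨1, by simpa [mem_subgroupOf] using mem_sup_left a⟩
      · rw [e] at a
        push Not at a
        obtain ⟨g, hg, b, -⟩ := a y.2
        exact ⟨⟨g, hg⟩⁻¹, by simpa [mem_subgroupOf] using mem_sup_right b⟩
    exact this.ge (mem_top (⟨x, hx⟩ : X))

end CfsgSZ
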